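import Groth.Agent.ExtDescLib.Basic
import Groth.Prelude.Def_ActBC
import Groth.Prelude.Def_TwC

/-!
# Extensions of commutative group schemes: families of splittings and base change
-/

set_option autoImplicit false
set_option backward.isDefEq.respectTransparency false
universe u

open CategoryTheory CategoryTheory.Limits MonoidalCategory CartesianMonoidalCategory AlgebraicGeometry MonObj

noncomputable section

namespace ExtGm

variable {S : Scheme.{u}} {G E Q : Over S} [GrpObj G] [GrpObj E] [GrpObj Q]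

/-- An extension of group schemes, read on points. -/
structure IsExt (u : G ⟶ E) (v : E ⟶ Q) : Prop where
  mon_u : IsMonHom u
  mon_v : IsMonHom v
  comp : u ≫ v = 1
  cover : ExtDescLib.HasCover v
  ker : ∀ (T : Over S) (a b : T ⟶ E), a ≫ v = b ≫ v → ∃! g : T ⟶ G, a * (g ≫ u) = b

theorem isExt_of_isExactSeq {u : G ⟶ E} {v : E ⟶ Q} (h : NonAbH1.IsExactSeq Scheme.fppfPrecoverage u v) :
    IsExt u v := by
  obtain ⟨hu, hv, huv, hpb, hloc⟩ := h
  exact ⟨hu, hv, huv, ExtDescLib.hasCover_of_locallyTrivial v hloc, fun T a b hab =>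
    ExtDescLib.exists_ker u v hpb a b hab⟩

theorem commute [IsCommMonObj E] {X : Over S} (a b : X ⟶ E) : a * b = b * a :=
  letI := Hom.commMonoid (M := E) (X := X)
  _root_.mul_comm a b

theorem isMonHom_of_mul {X Y : Over S} [GrpObj X] [GrpObj Y] (f : X ⟶ Y)
    (h : ∀ (Z : Over S) (a b : Z ⟶ X), (a * b) ≫ f = (a ≫ f) * (b ≫ f)) : IsMonHom f := by
  refine ⟨?_, ?_⟩
  · have h1 := h (𝟙_ _) 1 1
    rw [_root_.one_mul] at h1
    have h2 : (1 : 𝟙_ _ ⟶ X) ≫ f = 1 := mul_eq_left.1 h1.symm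
    simpa [Hom.one_def, toUnit_unique (toUnit (𝟙_ (Over S))) (𝟙 _)] using h2
  · have h1 := h _ (fst X X) (snd X X)
    simpa [Hom.mul_def, ← comp_lift, lift_fst_snd, lift_fst_comp_snd_comp] using h1

/-- A family of homomorphisms. -/
def IsFam {T : Over S} (φ : Q ⊗ T ⟶ E) : Prop :=
  ∀ (X : Over S) (x y : X ⟶ Q) (t : X ⟶ T), lift (x * y) t ≫ φ = (lift x t ≫ φ) * (lift y t ≫ φ)

/-- A retraction family gives a family of sections. -/
theorem exists_fam_of_retraction [IsCommMonObj E] {u : G ⟶ E} {v : E ⟶ Q} (h : IsExt u v) {T : Over S}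
    (r : E ⊗ T ⟶ G) (hr : IsFam r) (hur : (u ▷ T) ≫ r = fst G T) :
    ∃ φ : Q ⊗ T ⟶ E, IsFam φ ∧ φ ≫ v = fst Q T := by
  haveI := h.mon_u; haveI := h.mon_v
  let d : E ⊗ T ⟶ E := fst E T * (r ≫ u)⁻¹
  have hd : ∀ {X : Over S} (x : X ⟶ E) (t : X ⟶ T), lift x t ≫ d = x * ((lift x t ≫ r) ≫ u)⁻¹ := fun x t => by
    simp only [d, MonObj.comp_mul, lift_fst, GrpObj.comp_inv, Category.assoc]
  have hinv : ∀ (X : Over S) (a b : X ⟶ E ⊗ T), a ≫ (v ⊗ₘ 𝟙 T) = b ≫ (v ⊗ₘ 𝟙 T) → a ≫ d = b ≫ d := by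
    intro X a b hab
    have h1 : (a ≫ fst E T) ≫ v = (b ≫ fst E T) ≫ v := by
      have := congrArg (· ≫ fst Q T) hab
      simpa [tensorHom_fst] using this
    have h2 : a ≫ snd E T = b ≫ snd E T := by
      have := congrArg (· ≫ snd Q T) hab
      simpa [tensorHom_snd] using this
    obtain ⟨g, hg, -⟩ := h.ker X _ _ h1
    have ea : a = lift (a ≫ fst E T) (a ≫ snd E T) := by simp
    have eb : b = lift (b ≫ fst E T) (a ≫ snd E T) := by rw [h2]; simp
    rw [ea, eb, hd, hd, ← hg, hr]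
    have hgr : lift (g ≫ u) (a ≫ snd E T) ≫ r = g := by
      rw [← lift_whiskerRight, Category.assoc, hur, lift_fst]
    rw [hgr, MonObj.mul_comp, mul_inv_rev, _root_.mul_assoc, ← _root_.mul_assoc (g ≫ u) (g ≫ u)⁻¹,
      mul_inv_cancel, _root_.one_mul]
  have hc : ExtDescLib.HasCover (v ⊗ₘ 𝟙 T) := ExtDescLib.hasCover_tensor v (𝟙 T) h.cover (ExtDescLib.hasCover_id T)
  obtain ⟨φ, hφ⟩ := ExtDescLib.descend_cover (v ⊗ₘ 𝟙 T) hc d hinv
  have hφ' : ∀ {X : Over S} (x : X ⟶ E) (t : X ⟶ T), lift (x ≫ v) t ≫ φ = x * ((lift x t ≫ r) ≫ u)⁻¹ := fun x t => by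
    rw [← hd, ← hφ, lift_map_assoc, Category.comp_id]
  refine ⟨φ, fun X x y t => ?_, ExtDescLib.cancel_cover _ hc _ _ ?_⟩
  · obtain ⟨Z, π, z, hf, hs, hl, hz⟩ := ExtDescLib.hasCover_tensor _ _ (ExtDescLib.hasCover_tensor v v h.cover h.cover)
      (ExtDescLib.hasCover_id T)
    haveI := hf; haveI := hs; haveI := hl
    have key : (lift ((fst _ T ≫ fst Q Q) * (fst _ T ≫ snd Q Q)) (snd _ T) ≫ φ) =
        (lift (fst _ T ≫ fst Q Q) (snd _ T) ≫ φ) * (lift (fst _ T ≫ snd Q Q) (snd _ T) ≫ φ) := by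
      refine ExtDescLib.epi_cover π _ _ ?_
      simp only [MonObj.comp_mul, ← Category.assoc, comp_lift]
      rw [← hz]
      simp only [MonObj.comp_mul, Category.assoc, tensorHom_fst, tensorHom_snd, tensorHom_fst_assoc,
        tensorHom_snd_assoc, Category.comp_id]
      simp only [← Category.assoc, ← MonObj.mul_comp]
      rw [hφ', hφ', hφ', hr, MonObj.mul_comp, mul_inv_rev]
      generalize ((z ≫ fst (E ⊗ E) T) ≫ fst E E) = p
      generalize ((z ≫ fst (E ⊗ E) T) ≫ snd E E) = q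
      generalize ((lift p (z ≫ snd (E ⊗ E) T) ≫ r) ≫ u)⁻¹ = p'
      generalize ((lift q (z ≫ snd (E ⊗ E) T) ≫ r) ≫ u)⁻¹ = q'
      rw [_root_.mul_assoc, ← _root_.mul_assoc q q' p', commute (q * q') p', ← _root_.mul_assoc]
    have := congrArg (lift (lift x y) t ≫ ·) key
    simpa [MonObj.comp_mul, comp_lift_assoc, comp_lift] using this
  · rw [← Category.assoc, hφ, tensorHom_fst]
    simp only [d, MonObj.mul_comp, GrpObj.inv_comp, Category.assoc, h.comp, MonObj.comp_one, inv_one, _root_.mul_one]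

section BaseChange

variable {S' : Scheme.{u}} (f : S' ⟶ S)

/-- Points of a base change. -/
abbrev pts (A : Over S) (X : Over S') : ((Over.map f).obj X ⟶ A) ≃ (X ⟶ Red.bc f A) :=
  (Over.mapPullbackAdj f).homEquiv X A

theorem pts_symm_mul {X : Over S'} (a b : X ⟶ Red.bc f E) :
    (pts f E X).symm (a * b) = (pts f E X).symm a * (pts f E X).symm b := by
  rw [Equiv.symm_apply_eq]
  exact ((AlgGrp.Action.homEquiv_mul f _ _).trans (by rw [Equiv.apply_symm_apply, Equiv.apply_symm_apply])).symm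

theorem pts_symm_one {X : Over S'} : (pts f E X).symm (1 : X ⟶ Red.bc f E) = 1 :=
  mul_right_cancel (b := (pts f E X).symm (1 : X ⟶ Red.bc f E)) (by rw [← pts_symm_mul, _root_.one_mul, _root_.one_mul])

theorem pts_symm_map {A B : Over S} {X : Over S'} (a : X ⟶ Red.bc f A) (g : A ⟶ B) :
    (pts f B X).symm (a ≫ (Over.pullback f).map g) = (pts f A X).symm a ≫ g :=
  Adjunction.homEquiv_naturality_right_symm _ _ _

theorem pts_symm_comp {A : Over S} {X X' : Over S'} (c : X' ⟶ X) (a : X ⟶ Red.bc f A) :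
    (pts f A X').symm (c ≫ a) = (Over.map f).map c ≫ (pts f A X).symm a :=
  Adjunction.homEquiv_naturality_left_symm _ _ _

theorem isMonHom_map (g : E ⟶ Q) [IsMonHom g] :
    IsMonHom (M := Red.bc f E) (N := Red.bc f Q) ((Over.pullback f).map g) :=
  @Functor.map.instIsMonHom _ _ _ _ _ _ (Over.pullback f) _ _ _ _ _ g _

theorem isCommMonObj_bc [IsCommMonObj E] : IsCommMonObj (Red.bc f E) := by
  refine ⟨?_⟩
  apply (pts f E _).symm.injective
  rw [← Category.comp_id μ[Red.bc f E], ← Category.assoc]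
  rw [show μ[Red.bc f E] = fst (Red.bc f E) (Red.bc f E) * snd (Red.bc f E) (Red.bc f E) by
    rw [Hom.mul_def, lift_fst_snd, Category.id_comp]]
  simp only [Category.comp_id, MonObj.comp_mul, braiding_hom_fst, braiding_hom_snd]
  rw [pts_symm_mul, pts_symm_mul, commute]

/-- The base change of an extension. -/
theorem isExt_bc {u : G ⟶ E} {v : E ⟶ Q} (h : IsExt u v) :
    IsExt (G := Red.bc f G) (E := Red.bc f E) (Q := Red.bc f Q) ((Over.pullback f).map u) ((Over.pullback f).map v) := by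
  haveI := h.mon_u; haveI := h.mon_v
  refine ⟨isMonHom_map f u, isMonHom_map f v, ?_, ?_, fun X a b hab => ?_⟩
  · rw [← Functor.map_comp, h.comp]
    apply (pts f Q _).symm.injective
    rw [← Category.id_comp ((Over.pullback f).map (1 : G ⟶ Q)), pts_symm_map, MonObj.comp_one, pts_symm_one]
  · obtain ⟨T, π, t, hf, hs, hl, hπ⟩ := h.cover
    refine ⟨Red.bc f T, (Over.pullback f).map π, (Over.pullback f).map t, ?_, ?_, ?_, by rw [← Functor.map_comp, hπ]⟩
    · exact MorphismProperty.overPullbackMap (P := @Flat) _ _ hf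
    · exact MorphismProperty.overPullbackMap (P := @Surjective) _ _ hs
    · exact MorphismProperty.overPullbackMap (P := @LocallyOfFinitePresentation) _ _ hl
  · have hab' := congrArg (pts f Q X).symm hab
    rw [pts_symm_map, pts_symm_map] at hab'
    obtain ⟨g, hg, huniq⟩ := h.ker _ _ _ hab'
    refine ⟨pts f G X g, ?_, fun g' hg' => ?_⟩
    · apply (pts f E X).symm.injective
      rw [pts_symm_mul, pts_symm_map, Equiv.symm_apply_apply, hg]
    · rw [← Equiv.symm_apply_eq]
      refine huniq _ ?_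
      have e := congrArg (pts f E X).symm hg'
      rwa [pts_symm_mul, pts_symm_map] at e

/-- The splitting property of a morphism to the base. -/
def Splits (v : E ⟶ Q) : Prop :=
  ∃ σ : Red.bc f Q ⟶ Red.bc f E, IsMonHom σ ∧ σ ≫ (Over.pullback f).map v = 𝟙 (Red.bc f Q)

/-- The comparison of the product with the base as an object over it. -/
def toMap (A : Over S) : A ⊗ Over.mk f ⟶ (Over.map f).obj (Red.bc f A) :=
  Over.homMk (𝟙 _) (by simp [pullback.condition])

/-- The inverse comparison. -/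
def ofMap (A : Over S) : (Over.map f).obj (Red.bc f A) ⟶ A ⊗ Over.mk f :=
  Over.homMk (𝟙 _) (by simp [pullback.condition])

theorem ofMap_eq (A : Over S) {X : Over S'} (a : X ⟶ Red.bc f A) :
    (Over.map f).map a ≫ ofMap f A =
      lift ((pts f A X).symm a) (Over.homMk X.hom (by simp) : (Over.map f).obj X ⟶ Over.mk f) := by
  apply CartesianMonoidalCategory.hom_ext
  · rw [lift_fst]
    apply Over.OverMorphism.ext
    simp [ofMap, pts, Adjunction.homEquiv_counit]
  · rw [lift_snd]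
    apply Over.OverMorphism.ext
    simpa [ofMap] using Over.w a

theorem lift_toMap {A X : Over S} (x : X ⟶ A) (t : X ⟶ Over.mk f) :
    lift x t ≫ toMap f A =
      (Over.homMk (V := (Over.map f).obj (Over.mk t.left : Over S')) (𝟙 X.left)
        (by simpa using Over.w t) : X ⟶ (Over.map f).obj (Over.mk t.left : Over S')) ≫
      (Over.map f).map (pts f A (Over.mk t.left) (Over.homMk x.left
        (by simpa using (Over.w x).trans (Over.w t).symm))) := by
  apply Over.OverMorphism.ext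
  apply pullback.hom_ext
  · simp [toMap, pts, Adjunction.homEquiv_unit]
    exact (Category.id_comp _).symm
  · simp [toMap, pts, Adjunction.homEquiv_unit]

/-- A family of sections gives a splitting. -/
theorem splits_of_fam {v : E ⟶ Q} (φ : Q ⊗ Over.mk f ⟶ E) (hφ : IsFam φ) (hv : φ ≫ v = fst Q (Over.mk f)) :
    Splits f v := by
  let σ : Red.bc f Q ⟶ Red.bc f E := pts f E _ (ofMap f Q ≫ φ)
  have hσ : ∀ {X : Over S'} (a : X ⟶ Red.bc f Q), (pts f E X).symm (a ≫ σ) =
      lift ((pts f Q X).symm a) (Over.homMk X.hom (by simp) : (Over.map f).obj X ⟶ Over.mk f) ≫ φ := fun a => by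
    rw [pts_symm_comp, Equiv.symm_apply_apply, ← Category.assoc, ofMap_eq]
  refine ⟨σ, isMonHom_of_mul _ (fun X a b => (pts f E X).symm.injective ?_), (pts f Q _).symm.injective ?_⟩
  · rw [pts_symm_mul, hσ, hσ, hσ, pts_symm_mul, hφ]
  · rw [pts_symm_map, Equiv.symm_apply_apply, Category.assoc, hv]
    apply Over.OverMorphism.ext
    simp [ofMap, pts, Adjunction.homEquiv_counit]

/-- A homomorphism after base change gives a family. -/
theorem exists_fam_of_hom (ψ : Red.bc f Q ⟶ Red.bc f E) [IsMonHom ψ] :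
    ∃ φ : Q ⊗ Over.mk f ⟶ E, IsFam φ ∧ ∀ {W : Over S} [GrpObj W] (g : W ⟶ Q),
      (g ▷ Over.mk f) ≫ φ = toMap f W ≫ (pts f E _).symm ((Over.pullback f).map g ≫ ψ) := by
  refine ⟨toMap f Q ≫ (pts f E _).symm ψ, fun X x y t => ?_, fun {W} _ g => ?_⟩
  · rw [← Category.assoc, ← Category.assoc, ← Category.assoc, lift_toMap, lift_toMap, lift_toMap]
    simp only [Category.assoc, ← pts_symm_comp, ← MonObj.comp_mul]
    congr 1
    rw [← pts_symm_mul, ← MonObj.mul_comp, ← AlgGrp.Action.homEquiv_mul]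
    congr 3
  · rw [pts_symm_comp, ← Category.assoc, ← Category.assoc]
    congr 1
/-- Splittings transfer to a composite. -/
theorem splits_comp {S'' : Scheme.{u}} (g : S'' ⟶ S') {v : E ⟶ Q}
    (h : Splits (E := Red.bc f E) (Q := Red.bc f Q) g ((Over.pullback f).map v)) : Splits (g ≫ f) v := by
  obtain ⟨σ, hσ, hv⟩ := h
  haveI := hσ
  let CQ := ActBC.bcCompIso g f Q rfl
  let CE := ActBC.bcCompIso g f E rfl
  haveI : IsMonHom CQ.hom := ActBC.bcCompIso_isMonHom _ _ _
  haveI : IsMonHom CE.hom := ActBC.bcCompIso_isMonHom _ _ _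
  refine ⟨CQ.inv ≫ σ ≫ CE.hom, inferInstance, ?_⟩
  rw [Category.assoc, Category.assoc, ← ActBC.bcCompIso_hom_naturality, reassoc_of% hv, Iso.inv_hom_id]

end BaseChange

end ExtGm
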