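import Groth.Agent.DiagRepLib.Scheme
import Groth.Prelude.Def_GmPts

/-!
# Points of affine schemes over an affine base and functions of points of the multiplicative group
-/

set_option autoImplicit false
set_option backward.isDefEq.respectTransparency false
set_option linter.style.haveILetI false
universe u

open CategoryTheory MonoidalCategory CartesianMonoidalCategory AlgebraicGeometry CoactBr WithConv
open scoped MonObj TensorProduct

attribute [local instance] CoactBr.braidedAlgSpecOf

noncomputable section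

namespace ExtGm

variable {R : Type u} [CommRing R] {C D : Type u} [CommRing C] [CommRing D] [Algebra R C] [Algebra R D]

/-- The function of a point of the multiplicative group. -/
def fn (g : sp R C ⟶ Red.Gm (Spec (CommRingCat.of R))) : C :=
  (Scheme.ΓSpecIso (CommRingCat.of C)).hom (Red.gmFn g)

theorem isUnit_fn (g : sp R C ⟶ Red.Gm (Spec (CommRingCat.of R))) : IsUnit (fn g) :=
  (GmPts.isUnit_gmFn g).map (Scheme.ΓSpecIso (CommRingCat.of C)).hom.hom

theorem fn_mul (g g' : sp R C ⟶ Red.Gm (Spec (CommRingCat.of R))) : fn (g * g') = fn g * fn g' := by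
  unfold fn
  rw [GmPts.gmFn_mul]
  exact map_mul (Scheme.ΓSpecIso (CommRingCat.of C)).hom.hom _ _

theorem fn_one : fn (1 : sp R C ⟶ Red.Gm (Spec (CommRingCat.of R))) = 1 := by
  unfold fn
  rw [GmPts.gmFn_one]
  exact map_one (Scheme.ΓSpecIso (CommRingCat.of C)).hom.hom

theorem fn_injective : Function.Injective (fn : (sp R C ⟶ Red.Gm (Spec (CommRingCat.of R))) → C) :=
  fun _ _ h => GmPts.gmFn_injective ((Scheme.ΓSpecIso (CommRingCat.of C)).commRingCatIsoToRingEquiv.injective h)

theorem fn_pt (φ : C →ₐ[R] D) (g : sp R C ⟶ Red.Gm (Spec (CommRingCat.of R))) : fn (pt φ ≫ g) = φ (fn g) := by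
  unfold fn
  rw [GmPts.gmFn_comp]
  exact congrArg (fun q => (CommRingCat.Hom.hom q) (Red.gmFn g))
    (Scheme.ΓSpecIso_naturality (CommRingCat.ofHom φ.toRingHom))

theorem exists_fn_eq (x : C) (hx : IsUnit x) : ∃ g : sp R C ⟶ Red.Gm (Spec (CommRingCat.of R)), fn g = x := by
  obtain ⟨v, rfl⟩ := hx
  let z : Γ((sp R C).left, ⊤)ˣ := Units.map ((Scheme.ΓSpecIso (CommRingCat.of C)).inv.hom).toMonoidHom v
  refine ⟨GmPts.ptOfUnit z, ?_⟩
  unfold fn
  rw [GmPts.gmFn_ptOfUnit]
  exact Iso.inv_hom_id_apply (Scheme.ΓSpecIso (CommRingCat.of C)) (v : C)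

variable (R C D) in
/-- The pair of the two insertions. -/
abbrev pair : sp R (C ⊗[R] D) ⟶ sp R C ⊗ sp R D :=
  lift (pt (Algebra.TensorProduct.includeLeft : C →ₐ[R] C ⊗[R] D))
    (pt (Algebra.TensorProduct.includeRight : D →ₐ[R] C ⊗[R] D))

instance isIso_pair : IsIso (pair R C D) := by
  let m := Functor.LaxMonoidal.μ (algSpec (CommRingCat.of R)) (Opposite.op (CommAlgCat.of R C))
    (Opposite.op (CommAlgCat.of R D))
  haveI : IsIso m := inferInstance
  have h : pair R C D ≫ m = 𝟙 _ := by
    refine (lift_pt_pt (R := R) (B := C) (A := D) _ _).trans ?_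
    rw [Algebra.TensorProduct.lift_includeLeft_includeRight, pt_id]
  exact (IsIso.of_isIso_fac_right h)

theorem pair_eq_lift {K : Type u} [CommRing K] [Algebra R K] (x : C →ₐ[R] K) (y : D →ₐ[R] K) :
    pt (Algebra.TensorProduct.lift x y fun _ _ => .all _ _) ≫ pair R C D = lift (pt x) (pt y) := by
  rw [comp_lift, ← pt_comp, ← pt_comp]
  congr 2
  · exact Algebra.TensorProduct.lift_comp_includeLeft _ _ _
  · exact Algebra.TensorProduct.lift_comp_includeRight' _ _ _

variable {A : Type u} [CommRing A] [HopfAlgebra R A]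

/-- The product of two points as an algebra map. -/
abbrev conv (x y : A →ₐ[R] C) : A →ₐ[R] C :=
  (Algebra.TensorProduct.lift x y fun _ _ => .all _ _).comp (Bialgebra.comulAlgHom R A)

theorem pt_mul (x y : A →ₐ[R] C) : pt x * pt y = pt (conv x y) := by
  rw [Groth.Agent.DiagRep.pt_mul_conv]
  congr 1
  apply AlgHom.ext
  intro a
  show (toConv x * toConv y : WithConv (A →ₐ[R] C)) a = conv x y a
  rw [AlgHom.convMul_apply, AlgHom.comp_apply]
  rfl

end ExtGm
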