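import Mathlib

/-!
# A symmetric two-cocycle on a finite projective Hopf algebra becomes a coboundary after a finite flat extension
-/

set_option autoImplicit false
set_option backward.isDefEq.respectTransparency false
set_option linter.style.haveILetI false
universe u

open TensorProduct Coalgebra WithConv
open scoped TensorProduct

noncomputable section

namespace ExtGm

variable {R : Type u} [CommRing R]

section Coalg

variable {C : Type u} [AddCommGroup C] [Module R C]

theorem exists_dual_sum [Module.Finite R C] [Module.Projective R C] :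
    ∃ (n : ℕ) (c : Fin n → C) (φ : Fin n → (C →ₗ[R] R)), ∀ x, ∑ i, φ i x • c i = x := by
  obtain ⟨n, π, hπ⟩ := Module.Finite.exists_fin' R C
  obtain ⟨s, hs⟩ := Module.projective_lifting_property π LinearMap.id hπ
  refine ⟨n, fun i => π (Pi.single i 1), fun i => LinearMap.proj i ∘ₗ s, fun x => ?_⟩
  have h1 : ∑ i, (s x) i • (Pi.single i 1 : Fin n → R) = s x := by
    ext j; simp [Finset.sum_apply, Pi.single_apply]
  have h2 := congrArg π h1
  rw [map_sum] at h2
  simp only [map_smul] at h2
  exact h2.trans (DFunLike.congr_fun hs x)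

variable [Coalgebra R C] [IsCocomm R C]

/-- The universal group-like element over the convolution algebra of the dual. -/
theorem exists_grouplike [Module.Finite R C] [Module.Projective R C] (e : C) (he : counit (R := R) e = 1) :
    ∃ (B : Type u) (_ : CommRing B) (_ : Algebra R B), Module.FaithfullyFlat R B ∧ Module.Finite R B ∧
      Module.Projective R B ∧ ∃ (n : ℕ) (c : Fin n → C) (φ : Fin n → B), (∑ i, counit (R := R) (c i) • φ i = 1) ∧
        ∑ i, comul (R := R) (c i) ⊗ₜ[R] φ i = ∑ i, ∑ j, (c i ⊗ₜ[R] c j) ⊗ₜ[R] (φ i * φ j) := by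
  let B := WithConv (C →ₗ[R] R)
  let L : (C →ₗ[R] R) ≃ₗ[R] B :=
    { toFun := toConv
      invFun := fun x => x.ofConv
      map_add' := fun _ _ => rfl
      map_smul' := fun _ _ => rfl
      left_inv := fun _ => rfl
      right_inv := fun _ => rfl }
  obtain ⟨n, c, φ, hid⟩ := exists_dual_sum (R := R) (C := C)
  haveI hfin : Module.Finite R B := Module.Finite.equiv L
  haveI hproj : Module.Projective R B := Module.Projective.of_equiv L
  have hff : Module.FaithfullyFlat R B := by
    refine { submodule_ne_top := fun m hm htop => hm.ne_top ?_ }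
    let ev : B →ₗ[R] R := (LinearMap.applyₗ e) ∘ₗ L.symm.toLinearMap
    have h1 : ev 1 = 1 := by
      show Algebra.linearMap R R (counit (R := R) e) = 1
      simpa using he
    have h2 : (1 : B) ∈ m • (⊤ : Submodule R B) := by rw [htop]; trivial
    have h3 := Submodule.mem_map_of_mem (f := ev) h2
    rw [Submodule.map_smul'', h1] at h3
    exact (Ideal.eq_top_iff_one m).2 ((Submodule.smul_le.2 fun r hr x _ => m.mul_mem_right x hr) h3)
  refine ⟨B, inferInstance, inferInstance, hff, hfin, hproj, n, c, fun i => L (φ i), ?_, ?_⟩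
  · refine L.symm.injective ?_
    rw [map_sum]
    ext x
    simp only [map_smul, LinearEquiv.symm_apply_apply, LinearMap.coe_sum, Finset.sum_apply, LinearMap.smul_apply]
    show _ = Algebra.linearMap R R (counit (R := R) x)
    have := congrArg (counit (R := R) (A := C)) (hid x)
    rw [map_sum] at this
    simpa [mul_comm] using this
  · let Θ : C → ((C ⊗[R] C) ⊗[R] B →ₗ[R] C ⊗[R] C) := fun x =>
      TensorProduct.lift ((LinearMap.lsmul R (C ⊗[R] C)).flip.compl₂ ((LinearMap.applyₗ x) ∘ₗ L.symm.toLinearMap))
    have hΘ : ∀ x (z : C ⊗[R] C) (b : B), Θ x (z ⊗ₜ b) = b.ofConv x • z := fun x z b => rfl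
    have hrec : ∀ z : (C ⊗[R] C) ⊗[R] B, z = ∑ i, Θ (c i) z ⊗ₜ L (φ i) := by
      intro z
      induction z using TensorProduct.induction_on with
      | zero => simp
      | add x y hx hy =>
        conv_lhs => rw [hx, hy, ← Finset.sum_add_distrib]
        exact Finset.sum_congr rfl fun i _ => by rw [map_add, add_tmul]
      | tmul z b =>
        simp only [hΘ, smul_tmul, ← tmul_sum]
        congr 1
        refine L.symm.injective ?_
        rw [map_sum]
        ext x
        simp only [map_smul, LinearEquiv.symm_apply_apply, LinearMap.coe_sum, Finset.sum_apply, LinearMap.smul_apply]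
        show b.ofConv x = _
        conv_lhs => rw [← hid x, map_sum]
        simp [mul_comm]
    have hmap : ∀ (x : C), ∑ i, ∑ j, (toConv (φ i) * toConv (φ j) : B).ofConv x • (c i ⊗ₜ[R] c j) = comul (R := R) x := by
      intro x
      have key : ∀ z : C ⊗[R] C, ∑ i, ∑ j, LinearMap.mul' R R (TensorProduct.map (φ i) (φ j) z) • (c i ⊗ₜ[R] c j) = z := by
        intro z
        induction z using TensorProduct.induction_on with
        | zero => simp
        | add x y hx hy => simp only [map_add, add_smul, Finset.sum_add_distrib, hx, hy]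
        | tmul a b =>
          conv_rhs => rw [← hid a, ← hid b, sum_tmul]
          refine Finset.sum_congr rfl fun i _ => ?_
          rw [tmul_sum]
          refine Finset.sum_congr rfl fun j _ => ?_
          rw [TensorProduct.map_tmul, LinearMap.mul'_apply, smul_tmul_smul]
      exact key _
    rw [hrec (∑ i, comul (R := R) (c i) ⊗ₜ[R] L (φ i)), hrec (∑ i, ∑ j, _)]
    refine Finset.sum_congr rfl fun k _ => ?_
    congr 1
    simp only [map_sum, hΘ]
    rw [show ∑ i, ∑ j, (L (φ i) * L (φ j) : B).ofConv (c k) • (c i ⊗ₜ[R] c j) = comul (R := R) (c k) from hmap (c k)]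
    have := congrArg (comul (R := R) (A := C)) (hid (c k))
    rw [map_sum] at this
    simp only [map_smul] at this
    exact this

end Coalg

variable {A : Type u} [CommRing A] [HopfAlgebra R A]

open Algebra.TensorProduct in
/-- A symmetric normalised cocycle is a coboundary after a finite flat extension. -/
theorem exists_coboundary [Module.Finite R A] [Module.Projective R A] [IsCocomm R A] (w : A ⊗[R] A) (hw : IsUnit w)
    (hsym : Algebra.TensorProduct.comm R A A w = w)
    (hone : Algebra.TensorProduct.map (Bialgebra.counitAlgHom R A) (AlgHom.id R A) w = 1)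
    (hco : Algebra.TensorProduct.assoc R R R A A A (w ⊗ₜ 1) *
        Algebra.TensorProduct.assoc R R R A A A (Algebra.TensorProduct.map (Bialgebra.comulAlgHom R A) (AlgHom.id R A) w) =
      (1 ⊗ₜ w) * Algebra.TensorProduct.map (AlgHom.id R A) (Bialgebra.comulAlgHom R A) w) :
    ∃ (B : Type u) (_ : CommRing B) (_ : Algebra R B), Module.FaithfullyFlat R B ∧ Algebra.FinitePresentation R B ∧
      ∃ f : A ⊗[R] B, IsUnit f ∧
        Algebra.TensorProduct.map (Bialgebra.comulAlgHom R A) (AlgHom.id R B) f * (w ⊗ₜ 1) =
          Algebra.TensorProduct.map (includeLeft : A →ₐ[R] A ⊗[R] A) (AlgHom.id R B) f *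
            Algebra.TensorProduct.map (includeRight : A →ₐ[R] A ⊗[R] A) (AlgHom.id R B) f := by
  let Δ := Bialgebra.comulAlgHom R A
  let ψ : A →ₗ[R] A ⊗[R] A := LinearMap.mulLeft R w ∘ₗ Δ.toLinearMap
  let ε₀ : A →ₗ[R] R := counit
  have hψ : ∀ a, ψ a = w * Δ a := fun a => rfl
  have hrT : ∀ z : A ⊗[R] A, ψ.rTensor A z = (w ⊗ₜ 1) * Algebra.TensorProduct.map Δ (AlgHom.id R A) z := by
    intro z
    induction z using TensorProduct.induction_on with
    | zero => simp
    | add x y hx hy => simp only [map_add, mul_add, hx, hy]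
    | tmul a b => simp [hψ]
  have hlT : ∀ z : A ⊗[R] A, ψ.lTensor A z = (1 ⊗ₜ w) * Algebra.TensorProduct.map (AlgHom.id R A) Δ z := by
    intro z
    induction z using TensorProduct.induction_on with
    | zero => simp
    | add x y hx hy => simp only [map_add, mul_add, hx, hy]
    | tmul a b => simp [hψ]
  have hc1 : ∀ z : A ⊗[R] A, ε₀.rTensor A z = Algebra.TensorProduct.map (Bialgebra.counitAlgHom R A) (AlgHom.id R A) z :=
    fun z => rfl
  have hcomm : ∀ a, TensorProduct.comm R A A (ψ a) = ψ a := fun a => by
    show Algebra.TensorProduct.comm R A A (w * Δ a) = w * Δ a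
    rw [map_mul, hsym]
    congr 1
    exact comm_comul R a
  let C₀ : Coalgebra R A :=
    { comul := ψ
      counit := ε₀
      coassoc := LinearMap.ext fun a => by
        show Algebra.TensorProduct.assoc R R R A A A (ψ.rTensor A (ψ a)) = ψ.lTensor A (ψ a)
        simp only [hrT, hlT, hψ, map_mul]
        rw [← mul_assoc, hco, mul_assoc]
        congr 1
        congr 1
        exact coassoc_apply a
      rTensor_counit_comp_comul := LinearMap.ext fun a => by
        show ε₀.rTensor A (ψ a) = (1 : R) ⊗ₜ[R] a
        rw [hc1, hψ, map_mul, hone, one_mul]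
        exact rTensor_counit_comul a
      lTensor_counit_comp_comul := LinearMap.ext fun a => by
        show ε₀.lTensor A (ψ a) = a ⊗ₜ[R] (1 : R)
        rw [← hcomm a, LinearMap.lTensor, TensorProduct.map_comm]
        show TensorProduct.comm R R A (ε₀.rTensor A (ψ a)) = a ⊗ₜ[R] (1 : R)
        rw [hc1, hψ, map_mul, hone, one_mul,
          show Algebra.TensorProduct.map (Bialgebra.counitAlgHom R A) (AlgHom.id R A) (Δ a) = (1 : R) ⊗ₜ[R] a from
            rTensor_counit_comul a]
        rfl }
  have hcc : @IsCocomm R A _ _ _ C₀ := ⟨LinearMap.ext fun a => hcomm a⟩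
  have he : (ε₀ 1 : R) = 1 := Bialgebra.counit_one
  obtain ⟨B, _, _, hff, hfin, hproj, n, c, φ, h1, h2⟩ :=
    @exists_grouplike R _ A _ _ C₀ hcc _ _ 1 he
  haveI := hfin; haveI := hproj
  have hfp : Algebra.FinitePresentation R B := by
    haveI : Module.FinitePresentation R B := Module.finitePresentation_of_projective R B
    exact Algebra.FinitePresentation.of_finitePresentation R B
  let f : A ⊗[R] B := ∑ i, c i ⊗ₜ φ i
  have hid : Algebra.TensorProduct.map Δ (AlgHom.id R B) f * (w ⊗ₜ 1) =
      Algebra.TensorProduct.map (includeLeft : A →ₐ[R] A ⊗[R] A) (AlgHom.id R B) f *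
        Algebra.TensorProduct.map (includeRight : A →ₐ[R] A ⊗[R] A) (AlgHom.id R B) f := by
    simp only [f, map_sum, Algebra.TensorProduct.map_tmul, Finset.sum_mul, Finset.mul_sum, tmul_mul_tmul,
      mul_one, AlgHom.id_apply, includeLeft_apply, includeRight_apply, one_mul]
    calc ∑ i, (Δ (c i) * w) ⊗ₜ[R] φ i = ∑ i, ψ (c i) ⊗ₜ[R] φ i := by simp only [hψ, mul_comm w]
      _ = _ := h2.trans (by rw [Finset.sum_comm])
  refine ⟨B, inferInstance, inferInstance, hff, hfp, f, ?_, hid⟩
  let S := HopfAlgebra.antipodeAlgHom R A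
  let h := Algebra.TensorProduct.map (Algebra.TensorProduct.lift (AlgHom.id R A) S fun _ _ => Commute.all _ _)
    (AlgHom.id R B)
  have hS : ∀ z : A ⊗[R] A, Algebra.TensorProduct.lift (AlgHom.id R A) S (fun _ _ => Commute.all _ _) z =
      LinearMap.mul' R A ((HopfAlgebra.antipode R).lTensor A z) := by
    intro z
    induction z using TensorProduct.induction_on with
    | zero => simp
    | add x y hx hy => simp only [map_add, hx, hy]
    | tmul a b => simp [S]
  have e := congrArg h hid
  rw [map_mul, map_mul] at e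
  have e1 : h (Algebra.TensorProduct.map Δ (AlgHom.id R B) f) = 1 := by
    simp only [f, h, map_sum, Algebra.TensorProduct.map_tmul, AlgHom.id_apply, hS]
    have : ∀ i, LinearMap.mul' R A ((HopfAlgebra.antipode R).lTensor A (Δ (c i))) =
        algebraMap R A (counit (R := R) (c i)) := fun i => HopfAlgebra.mul_antipode_lTensor_comul_apply (c i)
    simp only [this, Algebra.algebraMap_eq_smul_one, smul_tmul, ← tmul_sum]
    rw [show ∑ i, counit (R := R) (c i) • φ i = 1 from h1]
    rfl
  have e2 : h (Algebra.TensorProduct.map (includeLeft : A →ₐ[R] A ⊗[R] A) (AlgHom.id R B) f) = f := by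
    simp [f, h, map_sum]
  rw [e1, e2, one_mul] at e
  exact isUnit_of_mul_isUnit_left (e ▸ (hw.map (includeLeft : A ⊗[R] A →ₐ[R] (A ⊗[R] A) ⊗[R] B)).map h)

end ExtGm
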