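import Groth.Agent.ExtGmLib.Basic
import Groth.Agent.ExtGmLib.Pts
import Groth.Agent.ExtGmLib.Twist

/-!
# An extension by the multiplicative group of a finite flat group with a section splits after a finite flat cover
-/

set_option autoImplicit false
set_option backward.isDefEq.respectTransparency false
set_option linter.style.haveILetI false
set_option maxHeartbeats 1000000
universe u

open CategoryTheory MonoidalCategory CartesianMonoidalCategory AlgebraicGeometry CoactBr
open scoped MonObj TensorProduct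

attribute [local instance] CoactBr.braidedAlgSpecOf

attribute [-instance] CategoryTheory.Hom.commGroup

noncomputable section

namespace ExtGm

variable {R : Type u} [CommRing R] {A : Type u} [CommRing A] [HopfAlgebra R A]

open Algebra.TensorProduct in
/-- The algebra of a commutative group is cocommutative. -/
theorem isCocomm_of_comm [IsCommMonObj (sp R A)] : Coalgebra.IsCocomm R A := by
  refine ⟨LinearMap.ext fun a => ?_⟩
  have h1 : (includeLeft : A →ₐ[R] A ⊗[R] A) = includeLeft := rfl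
  let l : A →ₐ[R] A ⊗[R] A := includeLeft
  let r : A →ₐ[R] A ⊗[R] A := includeRight
  have e : pt (conv r l) = pt (conv l r) := by rw [← pt_mul, ← pt_mul, commute]
  have e' := DFunLike.congr_fun (pt_injective e) a
  simp only [conv, AlgHom.comp_apply, l, r, Algebra.TensorProduct.lift_includeLeft_includeRight,
    AlgHom.id_apply] at e'
  show Algebra.TensorProduct.comm R A A (Bialgebra.comulAlgHom R A a) = _
  refine Eq.trans ?_ e'
  generalize Bialgebra.comulAlgHom R A a = z
  induction z using TensorProduct.induction_on with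
  | zero => simp
  | add z w hz hw => simp only [map_add, hz, hw]
  | tmul p q => simp

variable {E : Over (Spec (CommRingCat.of R))} [GrpObj E] [IsCommMonObj E]
  {u : Red.Gm (Spec (CommRingCat.of R)) ⟶ E} {v : E ⟶ sp R A}

open Algebra.TensorProduct in
/-- An extension with a section splits over a finite flat cover. -/
theorem exists_fam_finite [Module.Finite R A] [Module.Projective R A] [IsCommMonObj (sp R A)] (h : IsExt u v)
    (q : sp R A ⟶ E) (hq : q ≫ v = 𝟙 _) :
    ∃ T : Over (Spec (CommRingCat.of R)), Flat T.hom ∧ LocallyOfFinitePresentation T.hom ∧ Surjective T.hom ∧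
      ∃ φ : sp R A ⊗ T ⟶ E, IsFam φ ∧ φ ≫ v = fst _ T := by
  haveI := h.mon_u; haveI := h.mon_v
  haveI := isCocomm_of_comm (R := R) (A := A)
  let S := Spec (CommRingCat.of R)
  have hmono : ∀ {X : Over S} (g g' : X ⟶ Red.Gm S), g ≫ u = g' ≫ u → g = g' := fun {X} g g' e => by
    obtain ⟨_, -, huniq⟩ := h.ker X 1 (1 * (g ≫ u)) (by
      rw [MonObj.one_comp, _root_.one_mul, Category.assoc, h.comp, MonObj.comp_one])
    exact (huniq g rfl).trans (huniq g' (by rw [e])).symm
  let q' : sp R A ⟶ E := q * ((1 : sp R A ⟶ sp R A) ≫ q)⁻¹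
  have hq' : q' ≫ v = 𝟙 _ := by
    simp only [q', MonObj.mul_comp, GrpObj.inv_comp, Category.assoc, hq, Category.comp_id, inv_one, _root_.mul_one]
  have hq1 : ∀ {X : Over S}, (1 : X ⟶ sp R A) ≫ q' = 1 := fun {X} => by
    simp only [q', MonObj.comp_mul, GrpObj.comp_inv, ← Category.assoc, MonObj.comp_one, mul_inv_cancel]
  obtain ⟨d, hd, -⟩ := h.ker _ ((pt (includeLeft : A →ₐ[R] A ⊗[R] A) * pt (includeRight : A →ₐ[R] A ⊗[R] A)) ≫ q')
    ((pt (includeLeft : A →ₐ[R] A ⊗[R] A) ≫ q') * (pt (includeRight : A →ₐ[R] A ⊗[R] A) ≫ q')) (by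
      simp only [MonObj.mul_comp, Category.assoc, hq', Category.comp_id])
  let D : ∀ {C : Type u} [CommRing C] [Algebra R C], (A →ₐ[R] C) → (A →ₐ[R] C) → (sp R C ⟶ Red.Gm S) :=
    fun {C} _ _ x y => pt (Algebra.TensorProduct.lift x y fun _ _ => .all _ _) ≫ d
  have hD : ∀ {C : Type u} [CommRing C] [Algebra R C] (x y : A →ₐ[R] C),
      ((pt x * pt y) ≫ q') * (D x y ≫ u) = (pt x ≫ q') * (pt y ≫ q') := fun {C} _ _ x y => by
    have e := congrArg (pt (Algebra.TensorProduct.lift x y fun _ _ => .all _ _) ≫ ·) hd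
    have e1 : pt (Algebra.TensorProduct.lift x y fun _ _ => .all _ _) ≫
        pt (includeLeft : A →ₐ[R] A ⊗[R] A) = pt x := by
      rw [← pt_comp, Algebra.TensorProduct.lift_comp_includeLeft]
    have e2 : pt (Algebra.TensorProduct.lift x y fun _ _ => .all _ _) ≫
        pt (includeRight : A →ₐ[R] A ⊗[R] A) = pt y := by
      rw [← pt_comp, Algebra.TensorProduct.lift_comp_includeRight']
    simp only [MonObj.comp_mul, ← Category.assoc, e1, e2] at e
    exact e
  let w : A ⊗[R] A := fn d
  have hw : ∀ {C : Type u} [CommRing C] [Algebra R C] (x y : A →ₐ[R] C),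
      fn (D x y) = Algebra.TensorProduct.lift x y (fun _ _ => .all _ _) w := fun {C} _ _ x y => fn_pt _ _
  have hsym : Algebra.TensorProduct.comm R A A w = w := by
    have e : D (includeRight : A →ₐ[R] A ⊗[R] A) includeLeft = d := hmono _ _ (by
      have h1 := hD (includeRight : A →ₐ[R] A ⊗[R] A) includeLeft
      rw [commute (pt (includeRight : A →ₐ[R] A ⊗[R] A) ≫ q') (pt (includeLeft : A →ₐ[R] A ⊗[R] A) ≫ q'), ← hd,
        commute (pt (includeRight : A →ₐ[R] A ⊗[R] A)) (pt (includeLeft : A →ₐ[R] A ⊗[R] A))] at h1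
      exact mul_left_cancel h1)
    conv_rhs => rw [show w = fn d from rfl, ← e, hw]
    generalize w = z
    induction z using TensorProduct.induction_on with
    | zero => simp
    | add z w hz hw => simp only [map_add, hz, hw]
    | tmul a b => simp
  have hone : Algebra.TensorProduct.map (Bialgebra.counitAlgHom R A) (AlgHom.id R A) w = 1 := by
    let x₀ : A →ₐ[R] R ⊗[R] A := (Algebra.ofId R (R ⊗[R] A)).comp (Bialgebra.counitAlgHom R A)
    let y₀ : A →ₐ[R] R ⊗[R] A := includeRight
    have e : D x₀ y₀ = 1 := hmono _ _ (by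
      have h1 := hD x₀ y₀
      rw [show pt x₀ = 1 from one_eq_pt.symm, _root_.one_mul, hq1, _root_.one_mul] at h1
      rw [MonObj.one_comp]
      exact mul_eq_left.1 h1)
    have h2 : Algebra.TensorProduct.map (Bialgebra.counitAlgHom R A) (AlgHom.id R A) =
        Algebra.TensorProduct.lift x₀ y₀ (fun _ _ => .all _ _) := by
      ext a <;> simp [x₀, y₀, Algebra.ofId_apply]
    rw [h2, ← hw, e, fn_one]
  have hco : Algebra.TensorProduct.assoc R R R A A A (w ⊗ₜ 1) *
        Algebra.TensorProduct.assoc R R R A A A (Algebra.TensorProduct.map (Bialgebra.comulAlgHom R A) (AlgHom.id R A) w) =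
      (1 ⊗ₜ w) * Algebra.TensorProduct.map (AlgHom.id R A) (Bialgebra.comulAlgHom R A) w := by
    let x : A →ₐ[R] A ⊗[R] (A ⊗[R] A) := includeLeft
    let y : A →ₐ[R] A ⊗[R] (A ⊗[R] A) := includeRight.comp includeLeft
    let z : A →ₐ[R] A ⊗[R] (A ⊗[R] A) := includeRight.comp includeRight
    have key : D x y * D (conv x y) z = D y z * D x (conv y z) := hmono _ _ (by
      refine mul_left_cancel (a := (pt x * pt y * pt z) ≫ q') ?_
      have h1 := hD (conv x y) z
      have h2 := hD x (conv y z)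
      rw [← pt_mul] at h1 h2
      rw [MonObj.mul_comp (D x y), MonObj.mul_comp (D y z)]
      calc ((pt x * pt y * pt z) ≫ q') * ((D x y ≫ u) * (D (conv x y) z ≫ u))
          = ((pt x * pt y * pt z) ≫ q') * (D (conv x y) z ≫ u) * (D x y ≫ u) := by
            rw [commute (D x y ≫ u)]
            simp only [_root_.mul_assoc]
        _ = ((pt x * pt y) ≫ q') * (D x y ≫ u) * (pt z ≫ q') := by
            rw [h1, _root_.mul_assoc, commute (pt z ≫ q'), ← _root_.mul_assoc]
        _ = (pt x ≫ q') * ((pt y * pt z) ≫ q') * (D y z ≫ u) := by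
            rw [hD x y, _root_.mul_assoc, ← hD y z, ← _root_.mul_assoc]
        _ = ((pt x * pt y * pt z) ≫ q') * ((D y z ≫ u) * (D x (conv y z) ≫ u)) := by
            rw [← h2, _root_.mul_assoc (pt x), commute (D y z ≫ u), _root_.mul_assoc])
    have k := congrArg fn key
    rw [fn_mul, fn_mul, hw, hw, hw, hw] at k
    let as : (A ⊗[R] A) ⊗[R] A →ₐ[R] A ⊗[R] (A ⊗[R] A) := (Algebra.TensorProduct.assoc R R R A A A).toAlgHom
    have f1 : as.comp includeLeft = Algebra.TensorProduct.lift x y (fun _ _ => .all _ _) := by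
      ext a <;> simp [as, x, y, Algebra.TensorProduct.one_def]
    have f2 : as.comp (Algebra.TensorProduct.map (Bialgebra.comulAlgHom R A) (AlgHom.id R A)) =
        Algebra.TensorProduct.lift (conv x y) z (fun _ _ => .all _ _) := by
      ext a
      · have := DFunLike.congr_fun f1 (Bialgebra.comulAlgHom R A a)
        simpa [conv, as] using this
      · simp [as, z, Algebra.TensorProduct.one_def]
    have f3 : (includeRight : A ⊗[R] A →ₐ[R] A ⊗[R] (A ⊗[R] A)) =
        Algebra.TensorProduct.lift y z (fun _ _ => .all _ _) := by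
      ext a <;> simp [y, z]
    have f4 : Algebra.TensorProduct.map (AlgHom.id R A) (Bialgebra.comulAlgHom R A) =
        Algebra.TensorProduct.lift x (conv y z) (fun _ _ => .all _ _) := by
      ext a
      · simp [x]
      · have := DFunLike.congr_fun f3 (Bialgebra.comulAlgHom R A a)
        simpa [conv] using this
    rw [← f1, ← f2, ← f3, ← f4] at k
    exact k
  obtain ⟨B, _, _, hff, hfp, f, hfu, hf⟩ := exists_coboundary w (isUnit_fn d) hsym hone hco
  let T := sp R B
  refine ⟨T, ?_, ?_, ?_, ?_⟩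
  · exact ((flat_and_surjective_SpecMap_iff (CommRingCat.ofHom (algebraMap R B))).2
      (RingHom.faithfullyFlat_algebraMap_iff.2 hff)).1
  · exact (HasRingHomProperty.Spec_iff (P := @LocallyOfFinitePresentation)
      (φ := CommRingCat.ofHom (algebraMap R B))).2 (RingHom.finitePresentation_algebraMap.2 hfp)
  · exact ((flat_and_surjective_SpecMap_iff (CommRingCat.ofHom (algebraMap R B))).2
      (RingHom.faithfullyFlat_algebraMap_iff.2 hff)).2
  obtain ⟨g, hg⟩ := exists_fn_eq (R := R) f hfu
  let F : sp R A ⊗ T ⟶ Red.Gm S := inv (pair R A B) ≫ g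
  have hF : ∀ {C : Type u} [CommRing C] [Algebra R C] (x : A →ₐ[R] C) (t : B →ₐ[R] C),
      fn (lift (pt x) (pt t) ≫ F) = Algebra.TensorProduct.lift x t (fun _ _ => .all _ _) f := fun {C} _ _ x t => by
    rw [← pair_eq_lift, Category.assoc, IsIso.hom_inv_id_assoc, fn_pt, hg]
  let φ : sp R A ⊗ T ⟶ E := (fst _ T ≫ q') * (F ≫ u)⁻¹
  refine ⟨φ, fun X a b t => ?_, by
    simp only [φ, MonObj.mul_comp, GrpObj.inv_comp, Category.assoc, hq', h.comp, MonObj.comp_one, inv_one,
      _root_.mul_one, Category.comp_id]⟩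
  let K := (A ⊗[R] A) ⊗[R] B
  let x : A →ₐ[R] K := (includeLeft : A ⊗[R] A →ₐ[R] K).comp includeLeft
  let y : A →ₐ[R] K := (includeLeft : A ⊗[R] A →ₐ[R] K).comp includeRight
  let t₀ : B →ₐ[R] K := includeRight
  have hG : (D x y) * (lift (pt (conv x y)) (pt t₀) ≫ F) = (lift (pt x) (pt t₀) ≫ F) * (lift (pt y) (pt t₀) ≫ F) := by
    refine fn_injective ?_
    rw [fn_mul, fn_mul, hw, hF, hF, hF]
    have g1 : (includeLeft : A ⊗[R] A →ₐ[R] K) = Algebra.TensorProduct.lift x y (fun _ _ => .all _ _) := by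
      ext a <;> simp [x, y]
    have g2 : Algebra.TensorProduct.map (Bialgebra.comulAlgHom R A) (AlgHom.id R B) =
        Algebra.TensorProduct.lift (conv x y) t₀ (fun _ _ => .all _ _) := by
      ext a
      · have := DFunLike.congr_fun g1 (Bialgebra.comulAlgHom R A a)
        simp at this ⊢
        exact this
      · simp [t₀]
    have g3 : Algebra.TensorProduct.map (includeLeft : A →ₐ[R] A ⊗[R] A) (AlgHom.id R B) =
        Algebra.TensorProduct.lift x t₀ (fun _ _ => .all _ _) := by
      ext a <;> simp [x, t₀]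
    have g4 : Algebra.TensorProduct.map (includeRight : A →ₐ[R] A ⊗[R] A) (AlgHom.id R B) =
        Algebra.TensorProduct.lift y t₀ (fun _ _ => .all _ _) := by
      ext a <;> simp [y, t₀]
    rw [← g1, ← g2, ← g3, ← g4, mul_comm]
    exact hf
  have hφ : ∀ {W : Over S} (a : W ⟶ sp R A) (b : W ⟶ T),
      CartesianMonoidalCategory.lift a b ≫ φ = (a ≫ q') * (CartesianMonoidalCategory.lift a b ≫ F ≫ u)⁻¹ :=
    fun a b => by
      show CartesianMonoidalCategory.lift a b ≫ ((fst _ T ≫ q') * (F ≫ u)⁻¹) = _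
      rw [MonObj.comp_mul, GrpObj.comp_inv, ← Category.assoc, CartesianMonoidalCategory.lift_fst]
  have univ : lift (pt x * pt y) (pt t₀) ≫ φ = (lift (pt x) (pt t₀) ≫ φ) * (lift (pt y) (pt t₀) ≫ φ) := by
    have hG' := congrArg (· ≫ u) hG
    simp only [MonObj.mul_comp, Category.assoc] at hG'
    rw [hφ, hφ, hφ]
    calc ((pt x * pt y) ≫ q') * (lift (pt x * pt y) (pt t₀) ≫ F ≫ u)⁻¹
        = ((pt x * pt y) ≫ q') * (D x y ≫ u) *
            ((D x y ≫ u) * (lift (pt (conv x y)) (pt t₀) ≫ F ≫ u))⁻¹ := by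
          rw [pt_mul, commute (D x y ≫ u) (lift _ _ ≫ F ≫ u), mul_inv_rev, _root_.mul_assoc,
            ← _root_.mul_assoc (D x y ≫ u), mul_inv_cancel, _root_.one_mul]
      _ = _ := by
          rw [hD, hG', mul_inv_rev, _root_.mul_assoc, ← _root_.mul_assoc (pt y ≫ q'),
            commute ((pt y ≫ q') * (lift (pt y) (pt t₀) ≫ F ≫ u)⁻¹), ← _root_.mul_assoc]
  let κ : sp R K ⟶ (sp R A ⊗ sp R A) ⊗ T := pair R (A ⊗[R] A) B ≫ (pair R A A ▷ T)
  haveI : IsIso κ := inferInstanceAs (IsIso (pair R (A ⊗[R] A) B ≫ (pair R A A ▷ T)))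
  have hκ : κ = lift (lift (pt x) (pt y)) (pt t₀) := by
    show CartesianMonoidalCategory.lift _ _ ≫ (CartesianMonoidalCategory.lift _ _ ▷ T) = _
    rw [CartesianMonoidalCategory.lift_whiskerRight, CartesianMonoidalCategory.comp_lift, ← pt_comp, ← pt_comp]
  have e := congrArg (lift (lift a b) t ≫ inv κ ≫ ·) univ
  have c1 : lift (lift a b) t ≫ inv κ ≫ pt x = a := by
    have : κ ≫ fst _ T ≫ fst _ _ = pt x := by rw [hκ, lift_fst_assoc, lift_fst]
    rw [← this, IsIso.inv_hom_id_assoc, lift_fst_assoc, lift_fst]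
  have c2 : lift (lift a b) t ≫ inv κ ≫ pt y = b := by
    have : κ ≫ fst _ T ≫ snd _ _ = pt y := by rw [hκ, lift_fst_assoc, lift_snd]
    rw [← this, IsIso.inv_hom_id_assoc, lift_fst_assoc, lift_snd]
  have c3 : lift (lift a b) t ≫ inv κ ≫ pt t₀ = t := by
    have : κ ≫ snd _ T = pt t₀ := by rw [hκ, lift_snd]
    rw [← this, IsIso.inv_hom_id_assoc, lift_snd]
  simp only [MonObj.comp_mul, comp_lift_assoc, c1, c2, c3] at e
  exact e

end ExtGm
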