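import Groth.Agent.ExtGmLib.Props
import Groth.Agent.SplitSubLib.Etale
import Groth.Agent.MultExtLib.Main
import Groth.Agent.MultExtLib.Quot

/-!
# Extensions of groups of multiplicative type by the multiplicative group split etale locally
-/

set_option autoImplicit false
set_option backward.isDefEq.respectTransparency false
set_option linter.style.haveILetI false
set_option maxHeartbeats 1000000
universe u

open CategoryTheory CategoryTheory.Limits MonoidalCategory CartesianMonoidalCategory AlgebraicGeometry MonObj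
open Groth.Agent Groth.Agent.DiagRep

attribute [-instance] CategoryTheory.Hom.commGroup

noncomputable section

namespace ExtGm

variable {S : Scheme.{u}}

/-- Equality of base changes from equality on the product with the base. -/
theorem map_eq_of_fst {Y : Scheme.{u}} {D D' : Over Y} (a b : D ⟶ D') (U : Over Y)
    (h : fst D U ≫ a = fst D U ≫ b) : (Over.pullback U.hom).map a = (Over.pullback U.hom).map b := by
  apply Over.OverMorphism.ext
  apply pullback.hom_ext
  · have e := congrArg Over.Hom.left h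
    simp only [Over.comp_left] at e
    rw [ActBC.pullback_map_left_fst, ActBC.pullback_map_left_fst]
    exact e
  · exact (Over.w ((Over.pullback U.hom).map a)).trans (Over.w ((Over.pullback U.hom).map b)).symm

/-- A homomorphism from the multiplicative group which is a monomorphism into a diagonalisable group has a retraction
near every point. -/
theorem exists_retraction_near {Y : Scheme.{u}} (y : Y) {M : Type} [AddCommGroup M] [AddGroup.FG M]
    (w : Red.Gm Y ⟶ Red.DS Y M) [IsMonHom w] [Mono w] :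
    ∃ (Y' : Scheme.{u}) (g : Y' ⟶ Y), IsOpenImmersion g ∧ y ∈ Set.range g ∧
      ∃ r : Red.bc g (Red.DS Y M) ⟶ Red.bc g (Red.Gm Y), IsMonHom r ∧ (Over.pullback g).map w ≫ r = 𝟙 _ := by
  obtain ⟨U, j, hj, hz, ψ, hψ⟩ := MultSubLib.exists_open_dd (T := 𝟙_ (Over Y)) (fst _ _ ≫ w)
    (fun X g₁ g₂ t => by simp only [lift_fst_assoc, MonObj.mul_comp]) y
  rw [whiskerLeft_fst_assoc] at hψ
  have hjU : j.left = U.hom := by simpa using Over.w j
  haveI : IsOpenImmersion U.hom := hjU ▸ hj
  have hy : y ∈ Set.range U.hom := hjU ▸ hz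
  refine ⟨U.left, U.hom, inferInstance, hy, ?_⟩
  have hw := map_eq_of_fst w (MultSubLib.dd Y ψ) U hψ
  have hw' : (SplitSub.bcDS U.hom ℤ).inv ≫ (Over.pullback U.hom).map w =
      MultSubLib.dd U.left ψ ≫ (SplitSub.bcDS U.hom M).inv := by
    rw [hw, SplitSub.bc_map_dd]
  haveI : Nonempty U.left := by obtain ⟨z, -⟩ := hy; exact ⟨z⟩
  haveI : Mono ((Over.pullback U.hom).map w) := inferInstance
  haveI : Mono (MultSubLib.dd U.left ψ) := by
    rw [show MultSubLib.dd U.left ψ = (MultSubLib.dd U.left ψ ≫ (SplitSub.bcDS U.hom M).inv) ≫ (SplitSub.bcDS U.hom M).hom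
      by simp, ← hw']
    infer_instance
  have hsurj : Function.Surjective ψ := by
    intro m
    let π : Multiplicative ℤ →* Multiplicative (ℤ ⧸ ψ.range.toAddSubgroup') :=
      (QuotientAddGroup.mk' _).toMultiplicative
    have hπ : π.comp ψ = 1 := MonoidHom.ext fun x =>
      (QuotientAddGroup.eq_zero_iff (Multiplicative.toAdd (ψ x))).2 ⟨x, rfl⟩
    have e : MultSubLib.dd U.left π ≫ MultSubLib.dd U.left ψ =
        MultSubLib.dd U.left (1 : Multiplicative ℤ →* _) ≫ MultSubLib.dd U.left ψ := by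
      rw [MultSubLib.dd_comp_dd, MultSubLib.dd_comp_dd, hπ, MonoidHom.one_comp]
    have hm := DFunLike.congr_fun (SplitSub.dd_inj ((cancel_mono _).1 e)) m
    exact (QuotientAddGroup.eq_zero_iff (Multiplicative.toAdd m)).1 hm
  obtain ⟨m₀, hm₀⟩ := hsurj (Multiplicative.ofAdd 1)
  let χ : Multiplicative ℤ →* Multiplicative M := zpowersHom _ m₀
  have hχ : ψ.comp χ = MonoidHom.id _ := by
    apply MonoidHom.ext_mint
    simp [χ, hm₀]
  refine ⟨(Over.pullback U.hom).map (MultSubLib.dd Y χ), isMonHom_bc_map _ _, ?_⟩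
  rw [hw, ← Functor.map_comp, MultSubLib.dd_comp_dd, hχ, MultSubLib.dd_id, CategoryTheory.Functor.map_id]

/-- Extensions of groups of multiplicative type by the multiplicative group split locally. -/
theorem exists_splits_mult {E Q : Over S} [GrpObj E] [GrpObj Q] [IsCommMonObj E] {u : Red.Gm S ⟶ E} {v : E ⟶ Q}
    (h : IsExt u v) (hQ : SGA3x.IsMultTypeFT Q) (s : S) :
    ∃ (S' : Scheme.{u}) (f : S' ⟶ S), Flat f ∧ LocallyOfFinitePresentation f ∧ s ∈ Set.range f ∧ Splits f v := by
  haveI := h.mon_u; haveI := h.mon_v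
  obtain ⟨hva, hvf, hvl, hvs⟩ := props_of_isExt_gm h
  haveI := hva; haveI := hvf; haveI := hvl; haveI := hvs
  have hker := MultExt.isKernel_of_sq u v (isPullback_self h)
  have hE : SGA3x.IsMultTypeFT E :=
    MultExt.isMultTypeFT_of_ext_comm E v u hker (MultSubLib.isMultTypeFT_DS S ℤ) hQ
  obtain ⟨Y, f, y, M, _, _, e, hf, hy, he⟩ := SplitSub.exists_etale_split hE s
  haveI := hf; haveI := he
  haveI : Mono u := ⟨fun {X} a b hab => by
    obtain ⟨g, -, huniq⟩ := h.ker X 1 (1 * (a ≫ u)) (by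
      rw [MonObj.one_comp, _root_.one_mul, Category.assoc, h.comp, MonObj.comp_one])
    exact (huniq a rfl).trans (huniq b (by rw [hab])).symm⟩
  haveI : IsMonHom (M := Red.bc f (Red.Gm S)) (N := Red.bc f E) ((Over.pullback f).map u) := isMonHom_bc_map f u
  let w : Red.Gm Y ⟶ Red.DS Y M := (SplitSub.bcDS f ℤ).inv ≫ (Over.pullback f).map u ≫ e.hom
  haveI : IsMonHom w := inferInstanceAs (IsMonHom ((SplitSub.bcDS f ℤ).inv ≫ (Over.pullback f).map u ≫ e.hom))
  haveI : Mono w := inferInstanceAs (Mono ((SplitSub.bcDS f ℤ).inv ≫ (Over.pullback f).map u ≫ e.hom))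
  obtain ⟨Y', g, hg, hyg, r, hr, hwr⟩ := exists_retraction_near y w
  haveI := hg; haveI := hr
  let f' := g ≫ f
  let CE := ActBC.bcCompIso g f E rfl
  let CG := ActBC.bcCompIso g f (Red.Gm S) rfl
  haveI : IsMonHom CE.hom := ActBC.bcCompIso_isMonHom _ _ _
  haveI : IsMonHom CG.hom := ActBC.bcCompIso_isMonHom _ _ _
  haveI : IsMonHom (M := Red.bc g (Red.bc f E)) (N := Red.bc g (Red.DS Y M)) ((Over.pullback g).map e.hom) :=
    isMonHom_bc_map g e.hom
  haveI : IsMonHom (M := Red.bc g (Red.Gm Y)) (N := Red.bc g (Red.bc f (Red.Gm S)))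
      ((Over.pullback g).map (SplitSub.bcDS f ℤ).inv) := isMonHom_bc_map g (SplitSub.bcDS f ℤ).inv
  let r' : Red.bc f' E ⟶ Red.bc f' (Red.Gm S) :=
    CE.inv ≫ (Over.pullback g).map e.hom ≫ r ≫ (Over.pullback g).map (SplitSub.bcDS f ℤ).inv ≫ CG.hom
  haveI : IsMonHom r' := inferInstanceAs (IsMonHom
    (CE.inv ≫ (Over.pullback g).map e.hom ≫ r ≫ (Over.pullback g).map (SplitSub.bcDS f ℤ).inv ≫ CG.hom))
  have hur : (Over.pullback f').map u ≫ r' = 𝟙 _ := by
    have e1 : (Over.pullback f').map u = CG.inv ≫ (Over.pullback g).map ((Over.pullback f).map u) ≫ CE.hom := by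
      rw [Iso.eq_inv_comp, ActBC.bcCompIso_hom_naturality]
    have e2 : (Over.pullback f).map u ≫ e.hom = (SplitSub.bcDS f ℤ).hom ≫ w := by simp [w]
    simp only [e1, r', Category.assoc, Iso.hom_inv_id_assoc, ← Functor.map_comp_assoc, e2]
    simp only [Functor.map_comp_assoc, reassoc_of% hwr]
    rw [← Functor.map_comp_assoc, Iso.hom_inv_id, CategoryTheory.Functor.map_id]
    simp
  obtain ⟨φ, hφ, hφ'⟩ := exists_fam_of_hom f' r'
  have hufst : (u ▷ Over.mk f') ≫ φ = fst (Red.Gm S) (Over.mk f') := by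
    rw [hφ', hur]
    apply Over.OverMorphism.ext
    simp [toMap, pts, Adjunction.homEquiv_counit]
  obtain ⟨σ, hσ, hσv⟩ := exists_fam_of_retraction h φ hφ hufst
  refine ⟨Y', f', inferInstance, inferInstance, ?_, splits_of_fam f' σ hσ hσv⟩
  obtain ⟨z, hz⟩ := hyg
  exact ⟨z, by show (g ≫ f) z = s; rw [Scheme.Hom.comp_apply, hz, hy]⟩

end ExtGm
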