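import Groth.Agent.ExtGmLib.Section
import Groth.Agent.ExtGmLib.Finite
import Groth.Agent.ExtGmLib.Mult

/-!
# Extensions by the multiplicative group split fppf locally
-/

set_option autoImplicit false
set_option backward.isDefEq.respectTransparency false
set_option linter.style.haveILetI false
set_option maxHeartbeats 1000000
universe u

open CategoryTheory CategoryTheory.Limits MonoidalCategory CartesianMonoidalCategory AlgebraicGeometry CoactBr
open scoped MonObj

attribute [local instance] CoactBr.braidedAlgSpecOf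
attribute [-instance] CategoryTheory.Hom.commGroup

noncomputable section

namespace ExtGm

section General

variable {S : Scheme.{u}} {G G' E Q Q' : Over S} [GrpObj G] [GrpObj G'] [GrpObj E] [GrpObj Q] [GrpObj Q']

theorem isExt_iso {u : G ⟶ E} {v : E ⟶ Q} (h : IsExt u v) (a : G' ≅ G) [IsMonHom a.hom] (b : Q ≅ Q')
    [IsMonHom b.hom] : IsExt (a.hom ≫ u) (v ≫ b.hom) := by
  haveI := h.mon_u; haveI := h.mon_v
  refine ⟨inferInstance, inferInstance, ?_, ?_, fun T x y hxy => ?_⟩
  · rw [Category.assoc, ← Category.assoc u, h.comp, MonObj.one_comp, MonObj.comp_one]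
  · obtain ⟨T, π, t, hf, hs, hl, hπ⟩ := h.cover
    haveI := hf; haveI := hs; haveI := hl
    haveI : IsIso b.hom.left := ((Over.forget _).mapIso b).isIso_hom
    refine ⟨T, π ≫ b.hom, t, ?_, ?_, ?_, by rw [← Category.assoc, hπ]⟩ <;>
      (rw [Over.comp_left]; infer_instance)
  · rw [← Category.assoc, ← Category.assoc, cancel_mono] at hxy
    obtain ⟨g, hg, huniq⟩ := h.ker T x y hxy
    refine ⟨g ≫ a.inv, by simpa using hg, fun g' hg' => ?_⟩
    rw [← huniq (g' ≫ a.hom) (by simpa using hg'), Category.assoc, Iso.hom_inv_id, Category.comp_id]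

theorem splits_iso {v : E ⟶ Q} {S' : Scheme.{u}} (f : S' ⟶ S) (b : Q ≅ Q') [IsMonHom b.hom]
    (h : Splits f (v ≫ b.hom)) : Splits f v := by
  obtain ⟨σ, hσ, hv⟩ := h
  haveI := hσ
  haveI : IsMonHom (M := Red.bc f Q) (N := Red.bc f Q') ((Over.pullback f).map b.hom) := isMonHom_map f b.hom
  refine ⟨(Over.pullback f).map b.hom ≫ σ, inferInstance, ?_⟩
  haveI : IsIso ((Over.pullback f).map b.hom) := inferInstance
  rw [← cancel_mono ((Over.pullback f).map b.hom), Category.assoc, Category.assoc, Category.id_comp]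
  rw [Functor.map_comp] at hv
  rw [hv, Category.comp_id]

theorem isCommMonObj_of_mono [IsCommMonObj Q] (w : Q' ⟶ Q) [IsMonHom w] [Mono w] : IsCommMonObj Q' := by
  refine ⟨?_⟩
  rw [show μ[Q'] = fst Q' Q' * snd Q' Q' by rw [Hom.mul_def, lift_fst_snd, Category.id_comp]]
  simp only [MonObj.comp_mul, braiding_hom_fst, braiding_hom_snd]
  rw [← cancel_mono w, MonObj.mul_comp, MonObj.mul_comp, commute]

end General

variable {S : Scheme.{u}} {E Q : Over S} [GrpObj E] [GrpObj Q] [IsCommMonObj E] [IsCommMonObj Q]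

theorem exists_hopf {R : Type u} [CommRing R] (L : Over (Spec (CommRingCat.of R))) [GrpObj L] [IsAffine L.left] :
    ∃ (A : Type u) (_ : CommRing A) (_ : HopfAlgebra R A) (v : sp R A ≅ L), IsMonHom v.hom ∧ IsMonHom v.inv :=
  Groth.Agent.HomCorr.exists_hopf L

/-- Finite projective algebras from finite flat finitely presented morphisms. -/
theorem finite_projective {R A : Type u} [CommRing R] [CommRing A] [Algebra R A] [IsFinite (sp R A).hom]
    [Flat (sp R A).hom] [LocallyOfFinitePresentation (sp R A).hom] : Module.Finite R A ∧ Module.Projective R A := by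
  haveI hfin : Module.Finite R A :=
    RingHom.finite_algebraMap.1 ((IsFinite.SpecMap_iff (CommRingCat.ofHom (algebraMap R A))).1
      (inferInstanceAs (IsFinite (sp R A).hom)))
  haveI : Module.Flat R A :=
    RingHom.flat_algebraMap_iff.1 ((HasRingHomProperty.Spec_iff (P := @Flat) (φ := CommRingCat.ofHom (algebraMap R A))).1
      (inferInstanceAs (Flat (sp R A).hom)))
  haveI : Algebra.FinitePresentation R A :=
    RingHom.finitePresentation_algebraMap.1 ((HasRingHomProperty.Spec_iff (P := @LocallyOfFinitePresentation)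
      (φ := CommRingCat.ofHom (algebraMap R A))).1 (inferInstanceAs (LocallyOfFinitePresentation (sp R A).hom)))
  haveI : Module.FinitePresentation R A := Module.FinitePresentation.of_finite_of_finitePresentation R A
  exact ⟨hfin, Module.Flat.projective_of_finitePresentation⟩

/-- The finite case. -/
theorem exists_splits_finite {u : Red.Gm S ⟶ E} {v : E ⟶ Q} (h : IsExt u v) [IsFinite Q.hom] [Flat Q.hom]
    [LocallyOfFinitePresentation Q.hom] (s : S) :
    ∃ (S' : Scheme.{u}) (f : S' ⟶ S), Flat f ∧ LocallyOfFinitePresentation f ∧ s ∈ Set.range f ∧ Splits f v := by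
  obtain ⟨V, hV, hsV, -⟩ := exists_isAffineOpen_mem_and_subset (X := S) (x := s) (U := ⊤) trivial
  let R : Type u := (Γ(S, V) : CommRingCat.{u})
  let j : Spec (CommRingCat.of R) ⟶ S := hV.fromSpec
  obtain ⟨x, hx⟩ : ∃ x : Spec (CommRingCat.of R), j x = s := by
    have : s ∈ Set.range hV.fromSpec := by rw [hV.range_fromSpec]; exact hsV
    exact this
  let Q₀ := Red.bc j Q
  let E₀ := Red.bc j E
  haveI : IsCommMonObj E₀ := isCommMonObj_bc j
  haveI : IsCommMonObj Q₀ := isCommMonObj_bc j
  haveI : IsFinite Q₀.hom := MorphismProperty.pullback_snd (P := @IsFinite) _ _ inferInstance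
  haveI : Flat Q₀.hom := MorphismProperty.pullback_snd (P := @Flat) _ _ inferInstance
  haveI : LocallyOfFinitePresentation Q₀.hom :=
    MorphismProperty.pullback_snd (P := @LocallyOfFinitePresentation) _ _ inferInstance
  haveI : IsAffine Q₀.left := isAffine_of_isAffineHom Q₀.hom
  obtain ⟨A, _, _, w, hw, hw'⟩ := exists_hopf Q₀
  haveI := hw; haveI := hw'
  haveI : IsIso w.hom.left := ((Over.forget _).mapIso w).isIso_hom
  haveI : IsFinite (sp R A).hom := by rw [← Over.w w.hom]; infer_instance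
  haveI : Flat (sp R A).hom := by rw [← Over.w w.hom]; infer_instance
  haveI : LocallyOfFinitePresentation (sp R A).hom := by rw [← Over.w w.hom]; infer_instance
  obtain ⟨hfinA, -⟩ := finite_projective (R := R) (A := A)
  haveI := hfinA
  haveI : IsMonHom w.symm.hom := hw'
  let u₀ := (Groth.Agent.SplitSub.bcDS j ℤ).symm.hom ≫ (Over.pullback j).map u
  haveI : IsMonHom (Groth.Agent.SplitSub.bcDS j ℤ).symm.hom :=
    inferInstanceAs (IsMonHom (Groth.Agent.SplitSub.bcDS j ℤ).inv)
  have h₀ : IsExt u₀ ((Over.pullback j).map v ≫ w.symm.hom) :=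
    isExt_iso (isExt_bc j h) (Groth.Agent.SplitSub.bcDS j ℤ).symm w.symm
  obtain ⟨R', _, g, hg, ⟨y, hy⟩, sec, hsec⟩ := exists_section_near h₀ x
  haveI := hg
  let Q₁ := Red.bc g (sp R A)
  haveI : IsCommMonObj (sp R A) := isCommMonObj_of_mono w.hom
  haveI : IsCommMonObj Q₁ := isCommMonObj_bc g
  haveI : IsCommMonObj (Red.bc g E₀) := isCommMonObj_bc g
  haveI : IsFinite Q₁.hom := MorphismProperty.pullback_snd (P := @IsFinite) _ _ inferInstance
  haveI : Flat Q₁.hom := MorphismProperty.pullback_snd (P := @Flat) _ _ inferInstance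
  haveI : LocallyOfFinitePresentation Q₁.hom :=
    MorphismProperty.pullback_snd (P := @LocallyOfFinitePresentation) _ _ inferInstance
  haveI : IsAffine Q₁.left := isAffine_of_isAffineHom Q₁.hom
  obtain ⟨A₁, _, _, w₁, hw₁, hw₁'⟩ := exists_hopf Q₁
  haveI := hw₁; haveI := hw₁'
  haveI : IsIso w₁.hom.left := ((Over.forget _).mapIso w₁).isIso_hom
  haveI : IsFinite (sp R' A₁).hom := by rw [← Over.w w₁.hom]; infer_instance
  haveI : Flat (sp R' A₁).hom := by rw [← Over.w w₁.hom]; infer_instance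
  haveI : LocallyOfFinitePresentation (sp R' A₁).hom := by rw [← Over.w w₁.hom]; infer_instance
  obtain ⟨hfin₁, hproj₁⟩ := finite_projective (R := R') (A := A₁)
  haveI := hfin₁; haveI := hproj₁
  haveI : IsMonHom w₁.symm.hom := hw₁'
  haveI : IsCommMonObj (sp R' A₁) := isCommMonObj_of_mono w₁.hom
  haveI : IsMonHom (Groth.Agent.SplitSub.bcDS g ℤ).symm.hom :=
    inferInstanceAs (IsMonHom (Groth.Agent.SplitSub.bcDS g ℤ).inv)
  have h₁ : IsExt ((Groth.Agent.SplitSub.bcDS g ℤ).symm.hom ≫ (Over.pullback g).map u₀)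
      ((Over.pullback g).map ((Over.pullback j).map v ≫ w.symm.hom) ≫ w₁.symm.hom) :=
    isExt_iso (isExt_bc g h₀) (Groth.Agent.SplitSub.bcDS g ℤ).symm w₁.symm
  let q₀ : Q₁ ⟶ Red.bc g E₀ := pts g E₀ _ sec
  have hq₀ : q₀ ≫ (Over.pullback g).map ((Over.pullback j).map v ≫ w.symm.hom) = 𝟙 _ := by
    apply (pts g (sp R A) _).symm.injective
    rw [pts_symm_map, Equiv.symm_apply_apply, hsec]
  obtain ⟨T, hTf, hTl, hTs, φ, hφ, hφv⟩ := exists_fam_finite h₁ (w₁.hom ≫ q₀) (by
    rw [Category.assoc, reassoc_of% hq₀]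
    exact w₁.hom_inv_id)
  haveI := hTf; haveI := hTl; haveI := hTs
  have hs₁ : Splits T.hom ((Over.pullback g).map ((Over.pullback j).map v ≫ w.symm.hom) ≫ w₁.symm.hom) :=
    splits_of_fam T.hom φ hφ hφv
  have hs₂ := splits_comp g T.hom (splits_iso T.hom w₁.symm hs₁)
  have hs₃ := splits_comp j (T.hom ≫ g) (splits_iso (T.hom ≫ g) w.symm hs₂)
  refine ⟨T.left, (T.hom ≫ g) ≫ j, inferInstance, inferInstance, ?_, hs₃⟩
  obtain ⟨z, hz⟩ := T.hom.surjective y
  exact ⟨z, by rw [Scheme.Hom.comp_apply, Scheme.Hom.comp_apply, hz, hy, hx]⟩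

end ExtGm
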