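import Groth.Agent.ExtGmLib.Basic
import Groth.Agent.AlgSpLib.AffineDescent
import Groth.Agent.AlgSpLib.Fpqc
import Groth.Agent.MultEqLib.Props

/-!
# The quotient map of an extension by the multiplicative group
-/

set_option autoImplicit false
set_option backward.isDefEq.respectTransparency false
set_option linter.style.haveILetI false
universe u

open CategoryTheory CategoryTheory.Limits MonoidalCategory CartesianMonoidalCategory AlgebraicGeometry MonObj

noncomputable section

namespace ExtGm

variable {S : Scheme.{u}} {G E Q : Over S} [GrpObj G] [GrpObj E] [GrpObj Q] {u : G ⟶ E} {v : E ⟶ Q}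

/-- The kernel pair of the quotient map. -/
theorem isPullback_self (h : IsExt u v) : IsPullback (fst E G) ((E ◁ u) ≫ μ[E]) v v := by
  haveI := h.mon_u; haveI := h.mon_v
  have key : ∀ {X : Over S} (a : X ⟶ E) (g : X ⟶ G), lift a g ≫ (E ◁ u) ≫ μ[E] = a * (g ≫ u) := fun a g => by
    rw [lift_whiskerLeft_assoc, Hom.mul_def]
  have hw : fst E G ≫ v = ((E ◁ u) ≫ μ[E]) ≫ v := by
    rw [← Category.id_comp ((E ◁ u) ≫ μ[E]), ← lift_fst_snd, key, MonObj.mul_comp, Category.assoc, h.comp,
      MonObj.comp_one, _root_.mul_one]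
  choose l hl huniq using fun c : PullbackCone v v => h.ker _ c.fst c.snd c.condition
  refine ⟨⟨hw⟩, ⟨PullbackCone.IsLimit.mk _ (fun c => lift c.fst (l c)) (fun c => lift_fst _ _)
    (fun c => by rw [key, hl]) (fun c m h1 h2 => ?_)⟩⟩
  have e : m = lift (m ≫ fst E G) (m ≫ snd E G) := by simp
  rw [e, key, h1] at h2
  rw [e, h1, huniq c _ h2]

theorem props_of_isExt (h : IsExt u v) [IsAffineHom G.hom] [Flat G.hom] [LocallyOfFinitePresentation G.hom] :
    IsAffineHom v.left ∧ Flat v.left ∧ LocallyOfFinitePresentation v.left ∧ Surjective v.left := by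
  have sqv : IsPullback (fst E G).left ((E ◁ u) ≫ μ[E]).left v.left v.left :=
    (isPullback_self h).map (Over.forget _)
  obtain ⟨T, π, t, hf, hs, hl, hπ⟩ := h.cover
  haveI := hf; haveI := hs; haveI := hl
  haveI : IsAffineHom (fst E G).left := TorsExtLib.property_fst (Q := @IsAffineHom) E G ‹_›
  haveI : Flat (fst E G).left := TorsExtLib.property_fst (Q := @Flat) E G ‹_›
  haveI : LocallyOfFinitePresentation (fst E G).left :=
    TorsExtLib.property_fst (Q := @LocallyOfFinitePresentation) E G ‹_›
  have big := ((IsPullback.of_hasPullback t.left (fst E G).left).flip.paste_horiz sqv.flip).flip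
  rw [show t.left ≫ v.left = π.left from congrArg Over.Hom.left hπ] at big
  have hQ : (@Surjective ⊓ @Flat ⊓ @LocallyOfFinitePresentation : MorphismProperty Scheme.{u}) π.left :=
    ⟨⟨hs, hf⟩, hl⟩
  refine ⟨MorphismProperty.of_isPullback_of_descendsAlong (P := @IsAffineHom) big hQ (MorphismProperty.pullback_fst _ _ ‹_›),
    MorphismProperty.of_isPullback_of_descendsAlong (P := @Flat) big hQ inferInstance,
    MorphismProperty.of_isPullback_of_descendsAlong (P := @LocallyOfFinitePresentation) big hQ (MorphismProperty.pullback_fst _ _ ‹_›), ?_⟩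
  haveI : Surjective (t.left ≫ v.left) := by rw [← Over.comp_left, hπ]; infer_instance
  exact Surjective.of_comp t.left v.left

/-- The properties of the quotient by the multiplicative group. -/
theorem props_of_isExt_gm {E Q : Over S} [GrpObj E] [GrpObj Q] {u : Red.Gm S ⟶ E} {v : E ⟶ Q} (h : IsExt u v) :
    IsAffineHom v.left ∧ Flat v.left ∧ LocallyOfFinitePresentation v.left ∧ Surjective v.left := by
  haveI := Groth.Agent.MultEq.isAffineHom_DS S ℤ
  haveI := Groth.Agent.MultEq.lfp_DS S ℤ
  haveI : Flat (Red.Gm S).hom := by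
    haveI : Module.Free (ULift.{u} ℤ) (MonoidAlgebra (ULift.{u} ℤ) (Multiplicative ℤ)) :=
      Module.Free.of_basis (MonoidAlgebra.basis _ _)
    haveI : Flat (Red.diag (ULift.{u} ℤ) ℤ).hom :=
      (HasRingHomProperty.Spec_iff (P := @Flat) (φ := CommRingCat.ofHom (algebraMap (ULift.{u} ℤ)
        (MonoidAlgebra (ULift.{u} ℤ) (Multiplicative ℤ))))).2 (RingHom.flat_algebraMap_iff.2 inferInstance)
    exact MorphismProperty.pullback_snd _ _ inferInstance
  exact props_of_isExt h

end ExtGm
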