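import Groth.Agent.ExtGmLib.Split
import Groth.Agent.ExtGmLib.Props
import Groth.Agent.ExtGmLib.Pts

/-!
# An extension of a finite group by the multiplicative group has sections locally on the base
-/

set_option autoImplicit false
set_option backward.isDefEq.respectTransparency false
set_option linter.style.haveILetI false
set_option maxHeartbeats 1000000
universe u

open CategoryTheory CategoryTheory.Limits MonoidalCategory CartesianMonoidalCategory AlgebraicGeometry CoactBr
open Groth.Agent.TorsVec (ins12 ins23 ins13 insL insR)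
open scoped MonObj TensorProduct

attribute [local instance] CoactBr.braidedAlgSpecOf
attribute [-instance] CategoryTheory.Hom.commGroup

noncomputable section

namespace ExtGm

variable {R : Type u} [CommRing R] {A : Type u} [CommRing A] [HopfAlgebra R A]
  {E : Over (Spec (CommRingCat.of R))} [GrpObj E] {u : Red.Gm (Spec (CommRingCat.of R)) ⟶ E} {v : E ⟶ sp R A}

/-- Descending a point of the covering algebra along a twist. -/
theorem exists_descent {B : Type u} [CommRing B] [Algebra R B] [Algebra A B] [IsScalarTower R A B] (h : IsExt u v)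
    (φ : A →ₐ[R] B) (hφa : ∀ a, φ a = algebraMap A B a) (e : sp R B ⟶ E) (hφ : e ≫ v = pt φ)
    (g₀ : sp R (B ⊗[A] B) ⟶ Red.Gm (Spec (CommRingCat.of R)))
    (hg₀ : (pt ((insL (A := A) (B := B)).restrictScalars R) ≫ e) * (g₀ ≫ u) =
      pt ((insR (A := A) (B := B)).restrictScalars R) ≫ e)
    (c : (B ⊗[A] B)ˣ) (hc : (c : B ⊗[A] B) = fn g₀) (m : B)
    (hm : (1 : B) ⊗ₜ[A] m = (c : B ⊗[A] B) * (m ⊗ₜ 1))
    {A' B' : Type u} [CommRing A'] [CommRing B'] [Algebra A A'] [Algebra A B'] [Algebra A' B'] [IsScalarTower A A' B']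
    [Algebra R A'] [Algebra R B'] [IsScalarTower R A A'] [IsScalarTower R A B'] [IsScalarTower R A' B']
    [Module.FaithfullyFlat A' B'] (κ : B →ₐ[A] B') (hu : IsUnit (κ m)) :
    ∃ s : Spec (CommRingCat.of A') ⟶ E.left, s ≫ v.left = Spec.map (CommRingCat.ofHom (algebraMap A A')) := by
  haveI := h.mon_u; haveI := h.mon_v
  let iL : B →ₐ[R] B ⊗[A] B := (insL (A := A) (B := B)).restrictScalars R
  let iR : B →ₐ[R] B ⊗[A] B := (insR (A := A) (B := B)).restrictScalars R
  let P : ∀ {C : Type u} [CommRing C] [Algebra R C], (B →ₐ[R] C) → (sp R C ⟶ E) := fun {C} _ _ a => pt a ≫ e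
  have hP : ∀ {C D : Type u} [CommRing C] [CommRing D] [Algebra R C] [Algebra R D] (k : C →ₐ[R] D) (a : B →ₐ[R] C),
      pt k ≫ P a = P (k.comp a) := fun {C D} _ _ _ _ k a => by
    simp only [P, ← Category.assoc, ← pt_comp]
  have hPv : ∀ {C : Type u} [CommRing C] [Algebra R C] (a : B →ₐ[R] C), P a ≫ v = pt (a.comp φ) := fun {C} _ _ a => by
    simp only [P, Category.assoc, hφ, ← pt_comp]
  have hg : ∀ {C : Type u} [CommRing C] [Algebra R C] (k : B ⊗[A] B →ₐ[R] C),
      P (k.comp iL) * ((pt k ≫ g₀) ≫ u) = P (k.comp iR) := fun {C} _ _ k => by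
    have := congrArg (pt k ≫ ·) hg₀
    simpa only [MonObj.comp_mul, ← Category.assoc, ← pt_comp] using this
  obtain ⟨m', hm'⟩ := hu
  obtain ⟨t, ht⟩ := exists_fn_eq (R := R) ((m'⁻¹ : B'ˣ) : B') (Units.isUnit _)
  let κR : B →ₐ[R] B' := κ.restrictScalars R
  let L : B' →ₐ[R] B' ⊗[A'] B' := (insL (A := A') (B := B')).restrictScalars R
  let Rr : B' →ₐ[R] B' ⊗[A'] B' := (insR (A := A') (B := B')).restrictScalars R
  let LA : B' →ₐ[A] B' ⊗[A'] B' := (insL (A := A') (B := B')).restrictScalars A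
  let RA : B' →ₐ[A] B' ⊗[A'] B' := (insR (A := A') (B := B')).restrictScalars A
  let ψA : B ⊗[A] B →ₐ[A] B' ⊗[A'] B' :=
    Algebra.TensorProduct.lift (LA.comp κ) (RA.comp κ) (fun a b => Commute.all (LA (κ a)) (RA (κ b)))
  let ψ : B ⊗[A] B →ₐ[R] B' ⊗[A'] B' := ψA.restrictScalars R
  have eL : ψ.comp iL = L.comp κR := by
    ext b
    exact DFunLike.congr_fun (Algebra.TensorProduct.lift_comp_includeLeft (LA.comp κ) (RA.comp κ) fun _ _ => Commute.all _ _) b
  have eR : ψ.comp iR = Rr.comp κR := by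
    ext b
    exact DFunLike.congr_fun (Algebra.TensorProduct.lift_comp_includeRight' (LA.comp κ) (RA.comp κ) fun _ _ => Commute.all _ _) b
  let p' : sp R B' ⟶ E := P κR * (t ≫ u)
  have hfac : (pt ψ ≫ g₀) * (pt Rr ≫ t) = pt L ≫ t := by
    refine fn_injective ?_
    rw [fn_mul, fn_pt, fn_pt, fn_pt, ht, ← hc]
    have h1 : Rr (κ m) = ψ (c : B ⊗[A] B) * L (κ m) := by
      have h0 := congrArg ψ hm
      rw [map_mul] at h0
      have e1 : ψ (m ⊗ₜ[A] 1) = L (κ m) := DFunLike.congr_fun eL m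
      have e2 : ψ ((1 : B) ⊗ₜ[A] m) = Rr (κ m) := DFunLike.congr_fun eR m
      rw [← e1, ← e2]
      exact h0
    rw [← hm'] at h1
    calc ψ (c : B ⊗[A] B) * Rr (↑m'⁻¹ : B')
        = ψ (c : B ⊗[A] B) * (L (m' : B') * L (↑m'⁻¹ : B')) * Rr (↑m'⁻¹ : B') := by
          rw [← map_mul L, Units.mul_inv, map_one, _root_.mul_one]
      _ = (Rr (m' : B') * Rr (↑m'⁻¹ : B')) * L (↑m'⁻¹ : B') := by rw [h1]; ring
      _ = L (↑m'⁻¹ : B') := by rw [← map_mul Rr, Units.mul_inv, map_one, _root_.one_mul]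
  have hp' : pt L ≫ p' = pt Rr ≫ p' := by
    simp only [p', MonObj.comp_mul, hP, ← Category.assoc]
    rw [← hfac, MonObj.mul_comp, ← _root_.mul_assoc, ← eL, hg ψ, eR]
  let π : Spec (CommRingCat.of B') ⟶ Spec (CommRingCat.of A') := Spec.map (CommRingCat.ofHom (algebraMap A' B'))
  have hfs : Flat π ∧ Surjective π := (flat_and_surjective_SpecMap_iff _).2
    ((RingHom.faithfullyFlat_algebraMap_iff).2 inferInstance)
  haveI := hfs.1
  haveI := hfs.2
  haveI : EffectiveEpi π := inferInstance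
  have key : pullback.fst π π ≫ p'.left = pullback.snd π π ≫ p'.left := by
    rw [← cancel_epi (pullbackSpecIso A' B' B').inv, ← Category.assoc, ← Category.assoc,
      pullbackSpecIso_inv_fst, pullbackSpecIso_inv_snd]
    exact congrArg Over.Hom.left hp'
  have hcond : ∀ {Z : Scheme.{u}} (g₁ g₂ : Z ⟶ Spec (CommRingCat.of B')),
      g₁ ≫ π = g₂ ≫ π → g₁ ≫ p'.left = g₂ ≫ p'.left := fun {Z} g₁ g₂ hh => by
    rw [← pullback.lift_fst g₁ g₂ hh, Category.assoc, key, ← Category.assoc, pullback.lift_snd]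
  let s : Spec (CommRingCat.of A') ⟶ E.left := EffectiveEpi.desc π p'.left hcond
  have hsv : s ≫ v.left = Spec.map (CommRingCat.ofHom (algebraMap A A')) := by
    rw [← cancel_epi π, ← Category.assoc, EffectiveEpi.fac, ← Over.comp_left]
    simp only [p', MonObj.mul_comp, hPv, Category.assoc, h.comp, MonObj.comp_one, _root_.mul_one, pt_left]
    simp only [π, ← Spec.map_comp]
    congr 1
    ext a
    show κ (φ a) = algebraMap A' B' (algebraMap A A' a)
    rw [hφa]
    rw [AlgHom.commutes, IsScalarTower.algebraMap_apply A A' B']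
  exact ⟨s, hsv⟩

/-- Near every point of the base the quotient map has a scheme section. -/
theorem exists_section_near [Module.Finite R A] (h : IsExt u v) (p : Spec (CommRingCat.of R)) :
    ∃ (R' : Type u) (_ : CommRing R') (g : Spec (CommRingCat.of R') ⟶ Spec (CommRingCat.of R)),
      IsOpenImmersion g ∧ p ∈ Set.range g ∧
        ∃ sec : (Over.map g).obj (Red.bc g (sp R A)) ⟶ E, sec ≫ v = (pts g (sp R A) _).symm (𝟙 _) := by
  haveI := h.mon_u; haveI := h.mon_v
  let S := Spec (CommRingCat.of R)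
  obtain ⟨hva, hvf, -, hvs⟩ := props_of_isExt_gm h
  haveI := hva; haveI := hvf; haveI := hvs
  haveI : IsAffine (sp R A).left := inferInstanceAs (IsAffine (Spec (CommRingCat.of A)))
  haveI : IsAffine E.left := isAffine_of_isAffineHom v.left
  obtain ⟨B, cB, aB, e, -⟩ : ∃ (B : Type u) (_ : CommRing B) (_ : Algebra R B) (e : sp R B ≅ E), True := by
    obtain ⟨X, ⟨e⟩⟩ := (essImage_algSpec (R := CommRingCat.of R) (G := E)).2 inferInstance
    exact ⟨X.unop, inferInstance, inferInstance, e, trivial⟩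
  obtain ⟨φ, hφ⟩ := Groth.Agent.DiagRep.exists_pt (e.hom ≫ v)
  letI algAB : Algebra A B := φ.toRingHom.toAlgebra
  haveI tRAB : IsScalarTower R A B := IsScalarTower.of_algebraMap_eq fun r => (φ.commutes r).symm
  haveI hff : Module.FaithfullyFlat A B := by
    haveI : IsIso e.hom.left := ((Over.forget _).mapIso e).isIso_hom
    have hfs : Flat (Spec.map (CommRingCat.ofHom (algebraMap A B))) ∧
        Surjective (Spec.map (CommRingCat.ofHom (algebraMap A B))) := by
      rw [show Spec.map (CommRingCat.ofHom (algebraMap A B)) = e.hom.left ≫ v.left from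
        (congrArg Over.Hom.left hφ).symm]
      exact ⟨inferInstance, inferInstance⟩
    exact RingHom.faithfullyFlat_algebraMap_iff.1 ((flat_and_surjective_SpecMap_iff _).1 hfs)
  let P : ∀ {C : Type u} [CommRing C] [Algebra R C], (B →ₐ[R] C) → (sp R C ⟶ E) := fun {C} _ _ a => pt a ≫ e.hom
  have hP : ∀ {C D : Type u} [CommRing C] [CommRing D] [Algebra R C] [Algebra R D] (k : C →ₐ[R] D) (a : B →ₐ[R] C),
      pt k ≫ P a = P (k.comp a) := fun {C D} _ _ _ _ k a => by
    simp only [P, ← Category.assoc, ← pt_comp]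
  have hPv : ∀ {C : Type u} [CommRing C] [Algebra R C] (a : B →ₐ[R] C), P a ≫ v = pt (a.comp φ) := fun {C} _ _ a => by
    simp only [P, Category.assoc, hφ, ← pt_comp]
  let iL : B →ₐ[R] B ⊗[A] B := (insL (A := A) (B := B)).restrictScalars R
  let iR : B →ₐ[R] B ⊗[A] B := (insR (A := A) (B := B)).restrictScalars R
  have hLR : iL.comp φ = iR.comp φ := AlgHom.ext fun a => by
    show (insL (A := A) (B := B)) (algebraMap A B a) = (insR (A := A) (B := B)) (algebraMap A B a)
    rw [AlgHom.commutes, AlgHom.commutes]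
  obtain ⟨g₀, hg₀, -⟩ := h.ker _ (P iL) (P iR) (by rw [hPv, hPv, hLR])
  have hmono : ∀ {X : Over S} (g g' : X ⟶ Red.Gm S), g ≫ u = g' ≫ u → g = g' := fun {X} g g' e => by
    obtain ⟨_, -, huniq⟩ := h.ker X 1 (1 * (g ≫ u)) (by
      rw [MonObj.one_comp, _root_.one_mul, Category.assoc, h.comp, MonObj.comp_one])
    exact (huniq g rfl).trans (huniq g' (by rw [e])).symm
  have hg : ∀ {C : Type u} [CommRing C] [Algebra R C] (k : B ⊗[A] B →ₐ[R] C),
      P (k.comp iL) * ((pt k ≫ g₀) ≫ u) = P (k.comp iR) := fun {C} _ _ k => by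
    have := congrArg (pt k ≫ ·) hg₀
    simpa only [MonObj.comp_mul, hP, Category.assoc] using this
  let k12 : B ⊗[A] B →ₐ[R] B ⊗[A] (B ⊗[A] B) := (ins12 (A := A) (B := B)).restrictScalars R
  let k23 : B ⊗[A] B →ₐ[R] B ⊗[A] (B ⊗[A] B) := (ins23 (A := A) (B := B)).restrictScalars R
  let k13 : B ⊗[A] B →ₐ[R] B ⊗[A] (B ⊗[A] B) := (ins13 (A := A) (B := B)).restrictScalars R
  have e1 : k12.comp iL = k13.comp iL := by ext b; rfl
  have e2 : k12.comp iR = k23.comp iL := by ext b; rfl
  have e3 : k13.comp iR = k23.comp iR := by ext b; rfl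
  have hcoc : (pt k12 ≫ g₀) * (pt k23 ≫ g₀) = pt k13 ≫ g₀ := hmono _ _ (by
    refine mul_left_cancel (a := P (k13.comp iL)) ?_
    rw [MonObj.mul_comp, ← _root_.mul_assoc, ← e1, hg k12, e2, hg k23, ← e3, e1, hg k13])
  have hc' := congrArg fn hcoc
  rw [fn_mul, fn_pt, fn_pt, fn_pt, mul_comm] at hc'
  obtain ⟨c, hc⟩ := isUnit_fn (R := R) g₀
  rw [← hc] at hc'
  obtain ⟨f, hfp, m, n, hm, hmn⟩ := exists_splitting_near c hc' (show PrimeSpectrum R from p)
  let A' := Localization.Away (algebraMap R A f)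
  let B' := A' ⊗[A] B
  let κ : B →ₐ[A] B' := Algebra.TensorProduct.includeRight
  have hu : IsUnit (κ m) := by
    refine isUnit_of_mul_isUnit_left (y := κ n) ?_
    rw [← map_mul, ← hmn, AlgHom.commutes, IsScalarTower.algebraMap_apply A A' B']
    exact (IsLocalization.Away.algebraMap_isUnit (S := A') (algebraMap R A f)).map _
  obtain ⟨m', hm'⟩ := hu
  obtain ⟨t, ht⟩ := exists_fn_eq (R := R) ((m'⁻¹ : B'ˣ) : B') (Units.isUnit _)
  obtain ⟨s, hsv⟩ := exists_descent h φ (fun a => rfl) e.hom hφ g₀ hg₀ c hc m hm (A' := A') (B' := B') κ ⟨_, hm'⟩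
  let R' := Localization.Away f
  let g : Spec (CommRingCat.of R') ⟶ S := Spec.map (CommRingCat.ofHom (algebraMap R R'))
  haveI : IsOpenImmersion g := IsOpenImmersion.of_isLocalization (S := R') f
  have hrg : Set.range g = (PrimeSpectrum.basicOpen f : Set (PrimeSpectrum R)) :=
    PrimeSpectrum.localization_away_comap_range R' f
  let j : Spec (CommRingCat.of A') ⟶ Spec (CommRingCat.of A) := Spec.map (CommRingCat.ofHom (algebraMap A A'))
  haveI : IsOpenImmersion j := IsOpenImmersion.of_isLocalization (S := A') (algebraMap R A f)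
  let cu := (pts g (sp R A) _).symm (𝟙 (Red.bc g (sp R A)))
  have hr : Set.range cu.left ⊆ Set.range j := by
    rintro _ ⟨z, rfl⟩
    refine (PrimeSpectrum.localization_away_comap_range A' (algebraMap R A f)).ge ?_
    show cu.left z ∈ (PrimeSpectrum.comap (algebraMap R A)) ⁻¹' (PrimeSpectrum.basicOpen f : Set (PrimeSpectrum R))
    rw [Set.mem_preimage, ← hrg]
    refine ⟨pullback.snd _ g z, ?_⟩
    have hw := congrArg (fun k : _ ⟶ S => k z) (Over.w cu)
    exact hw.symm
  let l := IsOpenImmersion.lift j cu.left hr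
  have hl : (l ≫ s) ≫ v.left = cu.left := by rw [Category.assoc, hsv, IsOpenImmersion.lift_fac]
  refine ⟨R', inferInstance, g, inferInstance, ?_, Over.homMk (l ≫ s) ?_, Over.OverMorphism.ext ?_⟩
  · rw [hrg]
    exact hfp
  · rw [← Over.w v, ← Category.assoc, hl]
    exact Over.w cu
  · rw [Over.comp_left]
    exact hl

end ExtGm
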