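import Groth.Agent.TorsVecLib.UnitCocycle

/-!
# Splitting a multiplicative cocycle near a finite set of primes
-/

set_option autoImplicit false
set_option backward.isDefEq.respectTransparency false
set_option linter.style.haveILetI false
universe u

open TensorProduct

namespace ExtGm

open Groth.Agent.TorsVec

variable {A B : Type u} [CommRing A] [CommRing B] [Algebra A B]

/-- A multiplicative cocycle splits off any finite antichain of primes. -/
theorem exists_splitting_avoid [Module.FaithfullyFlat A B] (c : (B ⊗[A] B)ˣ)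
    (hc : ins23 (A := A) (B := B) (c : B ⊗[A] B) * ins12 (A := A) (B := B) (c : B ⊗[A] B) =
      ins13 (A := A) (B := B) (c : B ⊗[A] B))
    (F : Finset (PrimeSpectrum A)) (hF : ∀ q ∈ F, ∀ q' ∈ F, q.asIdeal ≤ q'.asIdeal → q = q') :
    ∃ x : A, (∀ q ∈ F, x ∉ q.asIdeal) ∧
      ∃ m n : B, (1 : B) ⊗ₜ[A] m = (c : B ⊗[A] B) * (m ⊗ₜ 1) ∧ algebraMap A B x = m * n := by
  classical
  have hpick : ∀ q : PrimeSpectrum A, ∃ x : A, x ∉ q.asIdeal ∧
      ∃ m n : B, (1 : B) ⊗ₜ[A] m = (c : B ⊗[A] B) * (m ⊗ₜ 1) ∧ algebraMap A B x = m * n := by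
    intro q
    by_contra hne
    refine q.isPrime.ne_top (top_le_iff.1 ((span_splitting_eq_top c hc).symm.le.trans (Ideal.span_le.2 fun x hx => ?_)))
    by_contra hxq
    exact hne ⟨x, hxq, hx⟩
  choose x hx m n hm hxmn using hpick
  have hsep : ∀ q ∈ F, ∃ e : A, e ∉ q.asIdeal ∧ ∀ q' ∈ F, q' ≠ q → e ∈ q'.asIdeal := by
    intro q hq
    have h : ∀ q' : PrimeSpectrum A, ∃ e : A, e ∉ q.asIdeal ∧ (q' ∈ F → q' ≠ q → e ∈ q'.asIdeal) := by
      intro q'
      by_cases h' : q' ∈ F ∧ q' ≠ q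
      · obtain ⟨e, he, he'⟩ := SetLike.not_le_iff_exists.1 fun hle => h'.2 (hF q' h'.1 q hq hle)
        exact ⟨e, he', fun _ _ => he⟩
      · exact ⟨1, q.isPrime.one_notMem, fun a b => absurd ⟨a, b⟩ h'⟩
    choose e he he' using h
    refine ⟨∏ q' ∈ F, e q', fun hmem => ?_, fun q' hq' hne => Ideal.prod_mem _ hq' (he' q' hq' hne)⟩
    obtain ⟨q', -, h2⟩ := q.isPrime.prod_mem_iff.1 hmem
    exact he q' h2
  choose e he he' using hsep
  let e' : PrimeSpectrum A → A := fun q => if h : q ∈ F then e q h else 0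
  have hn : ∀ q, (c : B ⊗[A] B) * ((1 : B) ⊗ₜ[A] (algebraMap A B (x q) * n q)) =
      (algebraMap A B (x q) * n q) ⊗ₜ[A] (1 : B) := by
    intro q
    have e0 : (algebraMap A B (x q)) ⊗ₜ[A] (1 : B) = (1 : B) ⊗ₜ[A] algebraMap A B (x q) := by
      rw [Algebra.algebraMap_eq_smul_one, smul_tmul]
    have e1 : (1 : B) ⊗ₜ[A] m q * ((1 : B) ⊗ₜ[A] n q) = (m q) ⊗ₜ[A] (1 : B) * ((n q) ⊗ₜ[A] (1 : B)) := by
      rw [Algebra.TensorProduct.tmul_mul_tmul, Algebra.TensorProduct.tmul_mul_tmul, one_mul, ← hxmn, e0]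
    have e2 : (1 : B) ⊗ₜ[A] (algebraMap A B (x q) * n q) =
        ((m q) ⊗ₜ[A] (1 : B) * ((n q) ⊗ₜ[A] (1 : B))) * ((1 : B) ⊗ₜ[A] n q) := by
      simp only [Algebra.TensorProduct.tmul_mul_tmul, ← hxmn, one_mul, mul_one]
      rw [Algebra.algebraMap_eq_smul_one, smul_mul_assoc, one_mul, smul_tmul]
    have e3 : (algebraMap A B (x q) * n q) ⊗ₜ[A] (1 : B) =
        ((1 : B) ⊗ₜ[A] m q * ((1 : B) ⊗ₜ[A] n q)) * ((n q) ⊗ₜ[A] (1 : B)) := by
      rw [e1, hxmn]
      simp only [Algebra.TensorProduct.tmul_mul_tmul, one_mul]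
    rw [e2, e3, hm]
    ring
  let M : B := ∑ q ∈ F, algebraMap A B (e' q) * m q
  let N : B := ∑ q ∈ F, algebraMap A B (e' q) * (algebraMap A B (x q) * n q)
  have hmn : ∀ q q', ∃ a : A, algebraMap A B a = m q * (algebraMap A B (x q') * n q') := by
    intro q q'
    refine ((Algebra.IsEffective.of_faithfullyFlat (R := A) (S := B)) _).1 ?_
    rw [Algebra.TensorProduct.includeLeftSubRight_apply, sub_eq_zero]
    generalize hb : algebraMap A B (x q') * n q' = b
    have hb' := hn q'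
    rw [hb] at hb'
    calc (m q * b) ⊗ₜ[A] (1 : B) = (m q ⊗ₜ[A] (1 : B)) * (b ⊗ₜ[A] (1 : B)) := by simp
      _ = ((c : B ⊗[A] B) * (m q ⊗ₜ[A] (1 : B))) * ((1 : B) ⊗ₜ[A] b) := by rw [← hb']; ring
      _ = (1 : B) ⊗ₜ[A] (m q * b) := by rw [← hm]; simp
  choose a ha using hmn
  let X : A := ∑ q ∈ F, ∑ q' ∈ F, e' q * e' q' * a q q'
  refine ⟨X, fun q hq hX => ?_, M, N, ?_, ?_⟩
  · have hdiag : a q q - x q * x q ∈ q.asIdeal := by
      have : algebraMap A B (a q q) = algebraMap A B (x q * x q) := by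
        rw [ha, map_mul, mul_left_comm, ← hxmn]
      rw [FaithfulSMul.algebraMap_injective A B this, sub_self]
      exact q.asIdeal.zero_mem
    have hz : ∀ q' ∈ F, q' ≠ q → e' q' ∈ q.asIdeal := fun q' hq' hne => by
      simp only [e', dif_pos hq']
      exact he' q' hq' q hq (Ne.symm hne)
    have h2 : X - e' q * e' q * a q q ∈ q.asIdeal := by
      show (∑ q₁ ∈ F, ∑ q' ∈ F, e' q₁ * e' q' * a q₁ q') - e' q * e' q * a q q ∈ q.asIdeal
      rw [Finset.sum_eq_add_sum_sdiff_singleton_of_mem hq,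
        Finset.sum_eq_add_sum_sdiff_singleton_of_mem hq, add_assoc, add_sub_cancel_left]
      refine add_mem (Ideal.sum_mem _ fun q' hq' => ?_) (Ideal.sum_mem _ fun q₁ hq₁ => Ideal.sum_mem _ fun q' _ => ?_)
      · simp only [Finset.mem_sdiff, Finset.mem_singleton] at hq'
        exact q.asIdeal.mul_mem_right _ (q.asIdeal.mul_mem_left _ (hz q' hq'.1 hq'.2))
      · simp only [Finset.mem_sdiff, Finset.mem_singleton] at hq₁
        exact q.asIdeal.mul_mem_right _ (q.asIdeal.mul_mem_right _ (hz q₁ hq₁.1 hq₁.2))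
    have h3 : e' q * e' q * a q q ∈ q.asIdeal := by simpa using sub_mem hX h2
    have h4 : e' q * e' q * (x q * x q) ∈ q.asIdeal := by
      have := sub_mem h3 (q.asIdeal.mul_mem_left (e' q * e' q) hdiag)
      simpa [mul_sub] using this
    have he'' : e' q ∉ q.asIdeal := by simpa only [e', dif_pos hq] using he q hq
    rcases q.isPrime.mem_or_mem h4 with h | h <;> rcases q.isPrime.mem_or_mem h with h | h
    exacts [he'' h, he'' h, hx q h, hx q h]
  · simp only [M, tmul_sum, sum_tmul, Finset.mul_sum]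
    refine Finset.sum_congr rfl fun q _ => ?_
    have e1 : (1 : B) ⊗ₜ[A] (algebraMap A B (e' q) * m q) = algebraMap A (B ⊗[A] B) (e' q) * ((1 : B) ⊗ₜ[A] m q) := by
      rw [← Algebra.smul_def, ← Algebra.smul_def, tmul_smul]
    have e2 : (algebraMap A B (e' q) * m q) ⊗ₜ[A] (1 : B) = algebraMap A (B ⊗[A] B) (e' q) * (m q ⊗ₜ[A] (1 : B)) := by
      rw [← Algebra.smul_def, ← Algebra.smul_def, smul_tmul']
    rw [e1, e2, hm]
    ring
  · simp only [X, M, N, map_sum, Finset.sum_mul, Finset.mul_sum, map_mul]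
    rw [Finset.sum_comm]
    refine Finset.sum_congr rfl fun q _ => Finset.sum_congr rfl fun q' _ => ?_
    rw [ha]
    ring

/-- Near a prime of the base a cocycle over a finite algebra splits. -/
theorem exists_splitting_near {R : Type u} [CommRing R] [Algebra R A] [Module.Finite R A]
    [Module.FaithfullyFlat A B] (c : (B ⊗[A] B)ˣ)
    (hc : ins23 (A := A) (B := B) (c : B ⊗[A] B) * ins12 (A := A) (B := B) (c : B ⊗[A] B) =
      ins13 (A := A) (B := B) (c : B ⊗[A] B)) (p : PrimeSpectrum R) :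
    ∃ f : R, f ∉ p.asIdeal ∧
      ∃ m n : B, (1 : B) ⊗ₜ[A] m = (c : B ⊗[A] B) * (m ⊗ₜ 1) ∧ algebraMap A B (algebraMap R A f) = m * n := by
  classical
  haveI : Algebra.IsIntegral R A := inferInstance
  have hfin : ((PrimeSpectrum.comap (algebraMap R A)) ⁻¹' {p}).Finite :=
    (inferInstance : Algebra.QuasiFinite R A).finite_comap_preimage_singleton p
  obtain ⟨x, hx, m, n, hm, hxmn⟩ := exists_splitting_avoid c hc hfin.toFinset fun q hq q' hq' hle => by
    by_contra hne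
    have hlt : q.asIdeal < q'.asIdeal := lt_of_le_of_ne hle fun h => hne (PrimeSpectrum.ext h)
    have h := Ideal.IsIntegral.comap_lt_comap (R := R) hlt
    rw [Set.Finite.mem_toFinset, Set.mem_preimage, Set.mem_singleton_iff] at hq hq'
    exact h.ne (congrArg PrimeSpectrum.asIdeal (hq.trans hq'.symm))
  obtain ⟨f, hf, hfp⟩ : ∃ f, f ∈ (Ideal.span {x}).comap (algebraMap R A) ∧ f ∉ p.asIdeal := by
    by_contra hne
    push Not at hne
    obtain ⟨q, hq1, hq2, hq3⟩ := Ideal.exists_ideal_over_prime_of_isIntegral p.asIdeal (Ideal.span {x}) hne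
    exact hx ⟨q, hq2⟩ (hfin.mem_toFinset.2 (PrimeSpectrum.ext hq3)) (hq1 (Ideal.mem_span_singleton_self x))
  obtain ⟨a, ha⟩ := Ideal.mem_span_singleton'.1 hf
  refine ⟨f, hfp, m, algebraMap A B a * n, hm, ?_⟩
  rw [← ha, map_mul, hxmn]
  ring

end ExtGm
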